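import Cfsg.Agent.Lib.SLComm.Split

/-!
The small exceptional families over the fields with two and three elements.
-/

set_option autoImplicit false

namespace CfsgLib.SLComm

open Polynomial Module

universe u

variable {F : Type u} [Field F] [Finite F]
variable {V : Type u} [AddCommGroup V] [Module F V] [FiniteDimensional F V]

omit [Finite F] [FiniteDimensional F V] in
theorem quad_kill {S : End F V} {x : V} {a b : F} {P : F[X]} (h : aeval S P x = 0)
    (hP : P = X ^ 2 + C a * X + C b := by rfl) : S (S x) = -a • S x - b • x := by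
  subst hP
  simp only [map_add, map_mul, map_pow, aeval_X, aeval_C, LinearMap.add_apply, pow_two, Module.End.mul_apply,
    Module.algebraMap_end_apply] at h
  linear_combination (norm := module) h

omit [Finite F] [FiniteDimensional F V] in
theorem lin_kill {S : End F V} {x : V} {r : F} {P : F[X]} (h : aeval S P x = 0)
    (hP : P = X - C r := by rfl) : S x = r • x := by
  subst hP
  rwa [map_sub, aeval_X, aeval_C, LinearMap.sub_apply, Module.algebraMap_end_apply, sub_eq_zero] at h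

omit [Finite F] in
theorem natDegree_quad (a b : F) : (X ^ 2 + C a * X + C b).natDegree = 2 := by compute_degree!

omit [Finite F] [FiniteDimensional F V] in
theorem neg_self_two (φ : ZMod 2 →+* F) (z : V) : -z = z := by
  rw [← neg_one_smul F z, ← map_one φ, ← map_neg φ, show (-1 : ZMod 2) = 1 by decide, map_one, one_smul]

theorem det_eq_one_two {n : ℕ} {A A' : Matrix (Fin n) (Fin n) (ZMod 2)} (h : A * A' = 1) : A.det = 1 := by
  have h1 : A.det * A'.det = 1 := by rw [← Matrix.det_mul, h, Matrix.det_one]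
  revert h1
  generalize A.det = a, A'.det = b
  revert a b
  decide

theorem exists_hom {p : ℕ} [hp : Fact p.Prime] (hF : Nat.card F = p) : Nonempty (ZMod p →+* F) := by
  haveI := Fintype.ofFinite F
  haveI : CharP F p := charP_of_card_eq_prime (by rwa [← Nat.card_eq_fintype_card])
  exact ⟨ZMod.castHom dvd_rfl F⟩

theorem isComm_cert {p : ℕ} [Fact p.Prime] {n : ℕ} {ι : Type*} [Fintype ι] {S : End F V} {x : ι → V} {P : ι → F[X]}
    (hb : BDec S x P) (hn : finrank F V = n) (φ : ZMod p →+* F) (b : Fin n → V)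
    (M A B : Matrix (Fin n) (Fin n) (ZMod p)) (hA : A.det = 1) (hB : B.det = 1) (hMAB : M * B * A = A * B)
    (hx : ∀ a, ∃ i, b i = x a) (hS : ∀ j, S (b j) = ∑ i, φ (M i j) • b i) : IsComm S := by
  classical
  set G := Submodule.span F (Set.range b)
  have hSG : G ≤ G.comap S := by
    refine Submodule.span_le.2 ?_
    rintro _ ⟨j, rfl⟩
    rw [SetLike.mem_coe, Submodule.mem_comap, hS]
    exact G.sum_mem fun i _ => G.smul_mem _ (Submodule.subset_span ⟨i, rfl⟩)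
  have htop : ⊤ ≤ G := fun z _ => by
    obtain ⟨q, rfl⟩ := hb.span z
    refine G.sum_mem fun a _ => ?_
    obtain ⟨i, hi⟩ := hx a
    induction q a using Polynomial.induction_on with
    | C c => simpa [← hi] using G.smul_mem c (Submodule.subset_span ⟨i, rfl⟩)
    | add q r hq hr => rw [map_add, LinearMap.add_apply]; exact add_mem hq hr
    | monomial m c ih =>
      rw [show C c * X ^ (m + 1) = X * (C c * X ^ m) by ring, map_mul, Module.End.mul_apply, aeval_X]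
      exact hSG ih
  let bb : Basis (Fin n) F V := basisOfTopLeSpanOfCardEqFinrank b htop (by simp [hn])
  have hbb : ∀ i, bb i = b i := fun i => by simp [bb]
  let Φ : Matrix (Fin n) (Fin n) F ≃ₐ[F] End F V := Matrix.toLinAlgEquiv bb
  have hSM : S = Φ (φ.mapMatrix M) := bb.ext fun j => by
    rw [hbb, hS, ← hbb j]
    simp only [Φ]
    rw [Matrix.toLinAlgEquiv_self]
    simp only [RingHom.mapMatrix_apply, Matrix.map_apply, hbb]
  have hdet : ∀ N : Matrix (Fin n) (Fin n) (ZMod p), N.det = 1 → LinearMap.det (Φ (φ.mapMatrix N)) = 1 := fun N hN => by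
    show LinearMap.det (Matrix.toLin bb bb (φ.mapMatrix N)) = 1
    rw [LinearMap.det_toLin, ← RingHom.map_det, hN, map_one]
  exact ⟨Φ (φ.mapMatrix A), Φ (φ.mapMatrix B), hdet A hA, hdet B hB, by
    rw [hSM, ← map_mul, ← map_mul, ← map_mul, ← map_mul, ← map_mul, ← map_mul, hMAB]⟩

theorem comm_c2 (hF : Nat.card F = 2) : Comm (![X ^ 2 + C (1) * X + C (1)] : Fin 1 → F[X]) := by
  intro V _ _ _ S x hb
  have hn : finrank F V = 2 := by
    rw [← hb.sum]
    simp only [Fin.sum_univ_succ, Fin.sum_univ_zero, Matrix.cons_val_zero, Matrix.cons_val_succ, natDegree_quad,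
      natDegree_X_sub_C, add_zero, Nat.reduceAdd]
  obtain ⟨φ⟩ := exists_hom (p := 2) hF
  have hneg := neg_self_two (V := V) φ
  have e0 := quad_kill (x := x 0) (a := (1 : F)) (b := (1 : F)) (hb.kill 0)
  refine isComm_cert hb hn φ ![x 0, S (x 0)]
    !![0, 1; 1, 1]
    !![1, 1; 0, 1]
    !![0, 1; 1, 0]
    (det_eq_one_two (A' := !![1, 1; 0, 1]) (by decide +kernel)) (det_eq_one_two (A' := !![0, 1; 1, 0]) (by decide +kernel)) (by decide +kernel) (fun a => ?_) (fun j => ?_)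
  · fin_cases a <;> first | exact ⟨0, rfl⟩
  · fin_cases j <;> simp [Fin.sum_univ_succ, e0, sub_eq_add_neg, add_comm, hneg]

theorem comm_t1_2 (hF : Nat.card F = 2) : Comm (![X ^ 2 + C (0) * X + C (1), X - C (1)] : Fin 2 → F[X]) := by
  intro V _ _ _ S x hb
  have hn : finrank F V = 3 := by
    rw [← hb.sum]
    simp only [Fin.sum_univ_succ, Fin.sum_univ_zero, Matrix.cons_val_zero, Matrix.cons_val_succ, natDegree_quad,
      natDegree_X_sub_C, add_zero, Nat.reduceAdd]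
  obtain ⟨φ⟩ := exists_hom (p := 2) hF
  have hneg := neg_self_two (V := V) φ
  have e0 := quad_kill (x := x 0) (a := (0 : F)) (b := (1 : F)) (hb.kill 0)
  have e1 := lin_kill (x := x 1) (r := (1 : F)) (hb.kill 1)
  refine isComm_cert hb hn φ ![x 0, S (x 0), x 1]
    !![0, 1, 0; 1, 0, 0; 0, 0, 1]
    !![0, 1, 1; 1, 0, 1; 0, 0, 1]
    !![0, 1, 0; 0, 1, 1; 1, 1, 1]
    (det_eq_one_two (A' := !![0, 1, 1; 1, 0, 1; 0, 0, 1]) (by decide +kernel)) (det_eq_one_two (A' := !![0, 1, 1; 1, 0, 0; 1, 1, 0]) (by decide +kernel)) (by decide +kernel) (fun a => ?_) (fun j => ?_)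
  · fin_cases a <;> first | exact ⟨0, rfl⟩ | exact ⟨2, rfl⟩
  · fin_cases j <;> simp [Fin.sum_univ_succ, e0, e1, sub_eq_add_neg, add_comm, hneg]

theorem comm_tt (hF : Nat.card F = 2) : Comm (![X ^ 2 + C (0) * X + C (1), X ^ 2 + C (0) * X + C (1)] : Fin 2 → F[X]) := by
  intro V _ _ _ S x hb
  have hn : finrank F V = 4 := by
    rw [← hb.sum]
    simp only [Fin.sum_univ_succ, Fin.sum_univ_zero, Matrix.cons_val_zero, Matrix.cons_val_succ, natDegree_quad,
      natDegree_X_sub_C, add_zero, Nat.reduceAdd]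
  obtain ⟨φ⟩ := exists_hom (p := 2) hF
  have hneg := neg_self_two (V := V) φ
  have e0 := quad_kill (x := x 0) (a := (0 : F)) (b := (1 : F)) (hb.kill 0)
  have e1 := quad_kill (x := x 1) (a := (0 : F)) (b := (1 : F)) (hb.kill 1)
  refine isComm_cert hb hn φ ![x 0, S (x 0), x 1, S (x 1)]
    !![0, 1, 0, 0; 1, 0, 0, 0; 0, 0, 0, 1; 0, 0, 1, 0]
    !![0, 0, 1, 0; 1, 0, 0, 0; 1, 0, 0, 1; 0, 1, 1, 1]
    !![1, 1, 0, 1; 0, 1, 0, 0; 1, 0, 0, 0; 1, 1, 1, 0]
    (det_eq_one_two (A' := !![0, 1, 0, 0; 1, 1, 1, 1; 1, 0, 0, 0; 0, 1, 1, 0]) (by decide +kernel)) (det_eq_one_two (A' := !![0, 0, 1, 0; 0, 1, 0, 0; 0, 1, 1, 1; 1, 1, 1, 0]) (by decide +kernel)) (by decide +kernel) (fun a => ?_) (fun j => ?_)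
  · fin_cases a <;> first | exact ⟨0, rfl⟩ | exact ⟨2, rfl⟩
  · fin_cases j <;> simp [Fin.sum_univ_succ, e0, e1, sub_eq_add_neg, add_comm, hneg]

theorem comm_tc (hF : Nat.card F = 2) : Comm (![X ^ 2 + C (0) * X + C (1), X ^ 2 + C (1) * X + C (1)] : Fin 2 → F[X]) := by
  intro V _ _ _ S x hb
  have hn : finrank F V = 4 := by
    rw [← hb.sum]
    simp only [Fin.sum_univ_succ, Fin.sum_univ_zero, Matrix.cons_val_zero, Matrix.cons_val_succ, natDegree_quad,
      natDegree_X_sub_C, add_zero, Nat.reduceAdd]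
  obtain ⟨φ⟩ := exists_hom (p := 2) hF
  have hneg := neg_self_two (V := V) φ
  have e0 := quad_kill (x := x 0) (a := (0 : F)) (b := (1 : F)) (hb.kill 0)
  have e1 := quad_kill (x := x 1) (a := (1 : F)) (b := (1 : F)) (hb.kill 1)
  refine isComm_cert hb hn φ ![x 0, S (x 0), x 1, S (x 1)]
    !![0, 1, 0, 0; 1, 0, 0, 0; 0, 0, 0, 1; 0, 0, 1, 1]
    !![1, 1, 1, 1; 1, 0, 0, 1; 1, 1, 1, 0; 0, 1, 0, 1]
    !![0, 0, 1, 1; 0, 1, 1, 0; 1, 0, 1, 0; 1, 0, 0, 0]
    (det_eq_one_two (A' := !![1, 1, 1, 0; 1, 0, 1, 1; 0, 1, 1, 1; 1, 0, 1, 0]) (by decide +kernel)) (det_eq_one_two (A' := !![0, 0, 0, 1; 0, 1, 1, 1; 0, 0, 1, 1; 1, 0, 1, 1]) (by decide +kernel)) (by decide +kernel) (fun a => ?_) (fun j => ?_)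
  · fin_cases a <;> first | exact ⟨0, rfl⟩ | exact ⟨2, rfl⟩
  · fin_cases j <;> simp [Fin.sum_univ_succ, e0, e1, sub_eq_add_neg, add_comm, hneg]

theorem comm_ttt (hF : Nat.card F = 2) : Comm (![X ^ 2 + C (0) * X + C (1), X ^ 2 + C (0) * X + C (1), X ^ 2 + C (0) * X + C (1)] : Fin 3 → F[X]) := by
  intro V _ _ _ S x hb
  have hn : finrank F V = 6 := by
    rw [← hb.sum]
    simp only [Fin.sum_univ_succ, Fin.sum_univ_zero, Matrix.cons_val_zero, Matrix.cons_val_succ, natDegree_quad,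
      natDegree_X_sub_C, add_zero, Nat.reduceAdd]
  obtain ⟨φ⟩ := exists_hom (p := 2) hF
  have hneg := neg_self_two (V := V) φ
  have e0 := quad_kill (x := x 0) (a := (0 : F)) (b := (1 : F)) (hb.kill 0)
  have e1 := quad_kill (x := x 1) (a := (0 : F)) (b := (1 : F)) (hb.kill 1)
  have e2 := quad_kill (x := x 2) (a := (0 : F)) (b := (1 : F)) (hb.kill 2)
  refine isComm_cert hb hn φ ![x 0, S (x 0), x 1, S (x 1), x 2, S (x 2)]
    !![0, 1, 0, 0, 0, 0; 1, 0, 0, 0, 0, 0; 0, 0, 0, 1, 0, 0; 0, 0, 1, 0, 0, 0; 0, 0, 0, 0, 0, 1; 0, 0, 0, 0, 1, 0]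
    !![1, 1, 1, 1, 0, 1; 1, 1, 1, 0, 0, 0; 0, 0, 0, 1, 1, 0; 1, 0, 0, 0, 1, 0; 0, 0, 0, 1, 0, 0; 0, 0, 1, 1, 1, 0]
    !![0, 1, 1, 1, 1, 0; 0, 0, 1, 0, 1, 0; 0, 0, 1, 1, 0, 0; 1, 1, 0, 0, 0, 1; 1, 1, 1, 0, 1, 0; 1, 0, 1, 0, 1, 1]
    (det_eq_one_two (A' := !![0, 0, 1, 1, 1, 0; 0, 1, 0, 1, 1, 1; 0, 0, 1, 0, 0, 1; 0, 0, 0, 0, 1, 0; 0, 0, 1, 0, 1, 0; 1, 1, 0, 0, 1, 0]) (by decide +kernel)) (det_eq_one_two (A' := !![0, 0, 0, 1, 1, 1; 0, 1, 0, 1, 0, 1; 1, 0, 1, 1, 0, 1; 1, 0, 0, 1, 0, 1; 1, 1, 1, 1, 0, 1; 0, 1, 0, 1, 1, 0]) (by decide +kernel)) (by decide +kernel) (fun a => ?_) (fun j => ?_)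
  · fin_cases a <;> first | exact ⟨0, rfl⟩ | exact ⟨2, rfl⟩ | exact ⟨4, rfl⟩
  · fin_cases j <;> simp [Fin.sum_univ_succ, e0, e1, e2, sub_eq_add_neg, add_comm, hneg]

theorem comm_i3 (hF : Nat.card F = 3) : Comm (![X ^ 2 + C (0) * X + C (1)] : Fin 1 → F[X]) := by
  intro V _ _ _ S x hb
  have hn : finrank F V = 2 := by
    rw [← hb.sum]
    simp only [Fin.sum_univ_succ, Fin.sum_univ_zero, Matrix.cons_val_zero, Matrix.cons_val_succ, natDegree_quad,
      natDegree_X_sub_C, add_zero, Nat.reduceAdd]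
  obtain ⟨φ⟩ := exists_hom (p := 3) hF
  have e0 := quad_kill (x := x 0) (a := (0 : F)) (b := (1 : F)) (hb.kill 0)
  refine isComm_cert hb hn φ ![x 0, S (x 0)]
    !![0, -1; 1, 0]
    !![0, -1; 1, -1]
    !![-1, 1; 1, 1]
    (by decide +kernel) (by decide +kernel) (by decide +kernel) (fun a => ?_) (fun j => ?_)
  · fin_cases a <;> first | exact ⟨0, rfl⟩
  · fin_cases j <;> simp [Fin.sum_univ_succ, e0, sub_eq_add_neg, add_comm]

theorem comm_p1 (hF : Nat.card F = 3) : Comm (![X ^ 2 + C (1) * X + C (1), X - C (1)] : Fin 2 → F[X]) := by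
  intro V _ _ _ S x hb
  have hn : finrank F V = 3 := by
    rw [← hb.sum]
    simp only [Fin.sum_univ_succ, Fin.sum_univ_zero, Matrix.cons_val_zero, Matrix.cons_val_succ, natDegree_quad,
      natDegree_X_sub_C, add_zero, Nat.reduceAdd]
  obtain ⟨φ⟩ := exists_hom (p := 3) hF
  have e0 := quad_kill (x := x 0) (a := (1 : F)) (b := (1 : F)) (hb.kill 0)
  have e1 := lin_kill (x := x 1) (r := (1 : F)) (hb.kill 1)
  refine isComm_cert hb hn φ ![x 0, S (x 0), x 1]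
    !![0, -1, 0; 1, -1, 0; 0, 0, 1]
    !![0, 0, -1; -1, -1, 1; 0, 1, -1]
    !![1, 0, 0; 0, 1, 0; -1, -1, 1]
    (by decide +kernel) (by decide +kernel) (by decide +kernel) (fun a => ?_) (fun j => ?_)
  · fin_cases a <;> first | exact ⟨0, rfl⟩ | exact ⟨2, rfl⟩
  · fin_cases j <;> simp [Fin.sum_univ_succ, e0, e1, sub_eq_add_neg, add_comm]

theorem comm_m1 (hF : Nat.card F = 3) : Comm (![X ^ 2 + C (-1) * X + C (1), X - C (1)] : Fin 2 → F[X]) := by
  intro V _ _ _ S x hb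
  have hn : finrank F V = 3 := by
    rw [← hb.sum]
    simp only [Fin.sum_univ_succ, Fin.sum_univ_zero, Matrix.cons_val_zero, Matrix.cons_val_succ, natDegree_quad,
      natDegree_X_sub_C, add_zero, Nat.reduceAdd]
  obtain ⟨φ⟩ := exists_hom (p := 3) hF
  have e0 := quad_kill (x := x 0) (a := (-1 : F)) (b := (1 : F)) (hb.kill 0)
  have e1 := lin_kill (x := x 1) (r := (1 : F)) (hb.kill 1)
  refine isComm_cert hb hn φ ![x 0, S (x 0), x 1]
    !![0, -1, 0; 1, 1, 0; 0, 0, 1]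
    !![-1, 1, 1; 1, 0, 1; 1, -1, 1]
    !![1, 1, 0; 0, -1, -1; 0, 1, 0]
    (by decide +kernel) (by decide +kernel) (by decide +kernel) (fun a => ?_) (fun j => ?_)
  · fin_cases a <;> first | exact ⟨0, rfl⟩ | exact ⟨2, rfl⟩
  · fin_cases j <;> simp [Fin.sum_univ_succ, e0, e1, sub_eq_add_neg, add_comm]

theorem comm_pp (hF : Nat.card F = 3) : Comm (![X ^ 2 + C (1) * X + C (1), X - C (-1), X - C (-1)] : Fin 3 → F[X]) := by
  intro V _ _ _ S x hb
  have hn : finrank F V = 4 := by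
    rw [← hb.sum]
    simp only [Fin.sum_univ_succ, Fin.sum_univ_zero, Matrix.cons_val_zero, Matrix.cons_val_succ, natDegree_quad,
      natDegree_X_sub_C, add_zero, Nat.reduceAdd]
  obtain ⟨φ⟩ := exists_hom (p := 3) hF
  have e0 := quad_kill (x := x 0) (a := (1 : F)) (b := (1 : F)) (hb.kill 0)
  have e1 := lin_kill (x := x 1) (r := (-1 : F)) (hb.kill 1)
  have e2 := lin_kill (x := x 2) (r := (-1 : F)) (hb.kill 2)
  refine isComm_cert hb hn φ ![x 0, S (x 0), x 1, x 2]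
    !![0, -1, 0, 0; 1, -1, 0, 0; 0, 0, -1, 0; 0, 0, 0, -1]
    !![0, 1, 0, -1; -1, 0, 1, -1; -1, 0, 0, -1; 0, 0, 0, -1]
    !![1, -1, -1, -1; 1, 1, 1, -1; 1, 1, -1, 0; -1, -1, -1, 0]
    (by decide +kernel) (by decide +kernel) (by decide +kernel) (fun a => ?_) (fun j => ?_)
  · fin_cases a <;> first | exact ⟨0, rfl⟩ | exact ⟨2, rfl⟩ | exact ⟨3, rfl⟩
  · fin_cases j <;> simp [Fin.sum_univ_succ, e0, e1, e2, sub_eq_add_neg, add_comm]

theorem comm_mm (hF : Nat.card F = 3) : Comm (![X ^ 2 + C (-1) * X + C (1), X - C (-1), X - C (-1)] : Fin 3 → F[X]) := by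
  intro V _ _ _ S x hb
  have hn : finrank F V = 4 := by
    rw [← hb.sum]
    simp only [Fin.sum_univ_succ, Fin.sum_univ_zero, Matrix.cons_val_zero, Matrix.cons_val_succ, natDegree_quad,
      natDegree_X_sub_C, add_zero, Nat.reduceAdd]
  obtain ⟨φ⟩ := exists_hom (p := 3) hF
  have e0 := quad_kill (x := x 0) (a := (-1 : F)) (b := (1 : F)) (hb.kill 0)
  have e1 := lin_kill (x := x 1) (r := (-1 : F)) (hb.kill 1)
  have e2 := lin_kill (x := x 2) (r := (-1 : F)) (hb.kill 2)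
  refine isComm_cert hb hn φ ![x 0, S (x 0), x 1, x 2]
    !![0, -1, 0, 0; 1, 1, 0, 0; 0, 0, -1, 0; 0, 0, 0, -1]
    !![0, 1, -1, 0; 1, 0, 0, 0; 0, 0, -1, 0; 1, 1, 1, 1]
    !![1, 1, 0, 1; -1, -1, 1, 0; 1, 1, 1, 0; 0, 1, 1, 1]
    (by decide +kernel) (by decide +kernel) (by decide +kernel) (fun a => ?_) (fun j => ?_)
  · fin_cases a <;> first | exact ⟨0, rfl⟩ | exact ⟨2, rfl⟩ | exact ⟨3, rfl⟩
  · fin_cases j <;> simp [Fin.sum_univ_succ, e0, e1, e2, sub_eq_add_neg, add_comm]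

theorem comm_z (hF : Nat.card F = 3) : Comm (![X ^ 2 + C (0) * X + C (-1), X - C (-1)] : Fin 2 → F[X]) := by
  intro V _ _ _ S x hb
  have hn : finrank F V = 3 := by
    rw [← hb.sum]
    simp only [Fin.sum_univ_succ, Fin.sum_univ_zero, Matrix.cons_val_zero, Matrix.cons_val_succ, natDegree_quad,
      natDegree_X_sub_C, add_zero, Nat.reduceAdd]
  obtain ⟨φ⟩ := exists_hom (p := 3) hF
  have e0 := quad_kill (x := x 0) (a := (0 : F)) (b := (-1 : F)) (hb.kill 0)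
  have e1 := lin_kill (x := x 1) (r := (-1 : F)) (hb.kill 1)
  refine isComm_cert hb hn φ ![x 0, S (x 0), x 1]
    !![0, 1, 0; 1, 0, 0; 0, 0, -1]
    !![-1, 1, 1; -1, 0, -1; 0, -1, -1]
    !![0, 0, -1; 1, 1, 1; 0, -1, 0]
    (by decide +kernel) (by decide +kernel) (by decide +kernel) (fun a => ?_) (fun j => ?_)
  · fin_cases a <;> first | exact ⟨0, rfl⟩ | exact ⟨2, rfl⟩
  · fin_cases j <;> simp [Fin.sum_univ_succ, e0, e1, sub_eq_add_neg, add_comm]

theorem comm_p (hF : Nat.card F = 3) : Comm (![X ^ 2 + C (1) * X + C (-1), X - C (-1)] : Fin 2 → F[X]) := by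
  intro V _ _ _ S x hb
  have hn : finrank F V = 3 := by
    rw [← hb.sum]
    simp only [Fin.sum_univ_succ, Fin.sum_univ_zero, Matrix.cons_val_zero, Matrix.cons_val_succ, natDegree_quad,
      natDegree_X_sub_C, add_zero, Nat.reduceAdd]
  obtain ⟨φ⟩ := exists_hom (p := 3) hF
  have e0 := quad_kill (x := x 0) (a := (1 : F)) (b := (-1 : F)) (hb.kill 0)
  have e1 := lin_kill (x := x 1) (r := (-1 : F)) (hb.kill 1)
  refine isComm_cert hb hn φ ![x 0, S (x 0), x 1]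
    !![0, 1, 0; 1, -1, 0; 0, 0, -1]
    !![0, -1, -1; 0, 0, -1; 1, -1, 1]
    !![0, -1, -1; 0, 0, 1; -1, 1, 1]
    (by decide +kernel) (by decide +kernel) (by decide +kernel) (fun a => ?_) (fun j => ?_)
  · fin_cases a <;> first | exact ⟨0, rfl⟩ | exact ⟨2, rfl⟩
  · fin_cases j <;> simp [Fin.sum_univ_succ, e0, e1, sub_eq_add_neg, add_comm]

theorem comm_n (hF : Nat.card F = 3) : Comm (![X ^ 2 + C (-1) * X + C (-1), X - C (-1)] : Fin 2 → F[X]) := by
  intro V _ _ _ S x hb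
  have hn : finrank F V = 3 := by
    rw [← hb.sum]
    simp only [Fin.sum_univ_succ, Fin.sum_univ_zero, Matrix.cons_val_zero, Matrix.cons_val_succ, natDegree_quad,
      natDegree_X_sub_C, add_zero, Nat.reduceAdd]
  obtain ⟨φ⟩ := exists_hom (p := 3) hF
  have e0 := quad_kill (x := x 0) (a := (-1 : F)) (b := (-1 : F)) (hb.kill 0)
  have e1 := lin_kill (x := x 1) (r := (-1 : F)) (hb.kill 1)
  refine isComm_cert hb hn φ ![x 0, S (x 0), x 1]
    !![0, 1, 0; 1, 1, 0; 0, 0, -1]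
    !![-1, 0, 0; 1, 0, 1; -1, 1, 0]
    !![-1, 1, 0; 0, 0, -1; 1, 1, 1]
    (by decide +kernel) (by decide +kernel) (by decide +kernel) (fun a => ?_) (fun j => ?_)
  · fin_cases a <;> first | exact ⟨0, rfl⟩ | exact ⟨2, rfl⟩
  · fin_cases j <;> simp [Fin.sum_univ_succ, e0, e1, sub_eq_add_neg, add_comm]

end CfsgLib.SLComm
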