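import Cfsg.Agent.Lib.SLComm.Scalar
import Cfsg.Agent.Lib.SLComm.Cert

/-!
Every map of determinant one is a commutator.
-/

set_option autoImplicit false

namespace CfsgLib.SLComm

open Polynomial Module

attribute [-instance] Fintype.subtypeEq Fintype.subtypeEq'

universe u

variable {F : Type u} [Field F] [Finite F]
variable {ι : Type} [Fintype ι]

/-- The families that occur: monic, without constants. -/
def Fam (P : ι → F[X]) : Prop := ∀ i, (P i).Monic ∧ 1 ≤ (P i).natDegree

omit [Finite F] [Fintype ι] in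
theorem Fam.linear {P : ι → F[X]} (h : Fam P) {i : ι} (hi : (P i).natDegree = 1) :
    P i = X - C (-(P i).coeff 0) := by
  rw [map_neg, sub_neg_eq_add]
  exact (h i).1.eq_X_add_C hi

omit [Finite F] in
theorem coeff_ne_zero {P : ι → F[X]} (hd : dprod P = 1) (i : ι) : (P i).coeff 0 ≠ 0 := fun e => by
  rw [dprod, Finset.prod_eq_zero (Finset.mem_univ i) (by rw [e, mul_zero])] at hd
  exact zero_ne_one hd

omit [Finite F] in
theorem dprod_join [DecidableEq ι] (P : ι → F[X]) (hP : ∀ i, (P i).Monic) (i j : ι) (hij : i ≠ j) :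
    dprod (fun l : {l // l ≠ j} => if (l : ι) = i then P i * P j else P l) = dprod P := by
  unfold dprod
  rw [Fintype.prod_eq_mul_prod_subtype_ne (fun l => (-1) ^ (P l).natDegree * (P l).coeff 0) j,
    Fintype.prod_eq_mul_prod_subtype_ne _ (⟨i, hij⟩ : {l // l ≠ j}),
    Fintype.prod_eq_mul_prod_subtype_ne (fun l : {l // l ≠ j} => (-1) ^ (P l).natDegree * (P l).coeff 0)
      (⟨i, hij⟩ : {l // l ≠ j})]
  simp only [↓reduceIte]
  rw [natDegree_mul (hP i).ne_zero (hP j).ne_zero, mul_coeff_zero, pow_add, ← mul_assoc]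
  rw [Finset.prod_congr rfl fun l _ => by rw [if_neg fun e => l.2 (Subtype.ext e)]]
  ring

theorem comm_empty [IsEmpty ι] (P : ι → F[X]) : Comm P := fun V _ _ _ S x hb =>
  isComm_of_finrank_zero S (by rw [← hb.sum]; simp)

/-- A chain with a big first block. -/
theorem comm_chain {P : ι → F[X]} (hP : Fam P) (hd : dprod P = 1) (hF : 3 ≤ Nat.card F) {i₀ i₁ : ι}
    (hne : i₁ ≠ i₀) (h0 : 2 ≤ (P i₀).natDegree)
    (hsmall : ∀ i, i ≠ i₀ → (P i).natDegree = 1 → P i ≠ X - C 1 ∧ (i = i₁ ∨ 4 ≤ Nat.card F))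
    (hsz : Fintype.card ι + 2 ≤ ∑ i, (P i).natDegree ∨ 4 ≤ Nat.card F) : Comm P := by
  classical
  obtain ⟨r, hr⟩ : ∃ r, Fintype.card ι = r + 2 := ⟨Fintype.card ι - 2, by
    have := Fintype.one_lt_card_iff.2 ⟨i₁, i₀, hne⟩; omega⟩
  let e₀ := (Fintype.equivFinOfCardEq hr).symm
  let e₁ := e₀.trans (Equiv.swap (e₀ 0) i₀)
  let e := e₁.trans (Equiv.swap (e₁ 1) i₁)
  have h10 : e₁ 0 = i₀ := by simp [e₁]
  have he1 : e 1 = i₁ := by simp [e]
  have he0 : e 0 = i₀ := by
    show Equiv.swap (e₁ 1) i₁ (e₁ 0) = i₀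
    rw [h10, Equiv.swap_apply_of_ne_of_ne (fun h => ?_) hne.symm]
    have := e₁.injective (h10.trans h)
    simp [Fin.ext_iff] at this
  intro V _ _ _ S x hb
  have hb' := hb.reindex e
  have hdet : LinearMap.det S = 1 := (BDec.det rfl hb).trans hd
  have hlin : ∀ a : Fin (r + 2), a ≠ 0 → 2 ≤ (P (e a)).natDegree ∨
      ((P (e a)).natDegree = 1 ∧ (e a = i₁ ∨ 4 ≤ Nat.card F) ∧
        ∃ ε : F, ε ≠ 1 ∧ ε ≠ 0 ∧ S (x (e a)) = ε • x (e a)) := fun a ha => by
    by_cases h2 : 2 ≤ (P (e a)).natDegree
    · exact Or.inl h2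
    have h1 : (P (e a)).natDegree = 1 := by have := (hP (e a)).2; omega
    obtain ⟨hne1, hor⟩ := hsmall (e a) (fun h => ha (e.injective (h.trans he0.symm))) h1
    refine Or.inr ⟨h1, hor, -(P (e a)).coeff 0, fun h => hne1 ?_, neg_ne_zero.2 (coeff_ne_zero hd _),
      lin_kill (hb.kill (e a)) (hP.linear h1)⟩
    rw [hP.linear h1, h]
  refine isComm_chain hdet hb'.dec (by simpa [he0] using h0) ?_ (fun a => ?_) ?_ hF
  · rcases hlin 1 (by simp) with h | ⟨h, -, hε⟩
    exacts [Or.inl h, Or.inr ⟨h, hε⟩]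
  · rcases hlin a.succ.succ (Fin.succ_ne_zero _) with h | ⟨h, hor, hε⟩
    · exact Or.inl h
    refine Or.inr ⟨h, hor.resolve_left fun h' => ?_, hε⟩
    have := e.injective (h'.trans he1.symm)
    simp [Fin.ext_iff] at this
  · rw [← hb.sum]; omega

/-- A single block. -/
theorem comm_unique {P : ι → F[X]} (hd : dprod P = 1) (hc : Fintype.card ι = 1) (i : ι) (h2 : 2 ≤ (P i).natDegree)
    (hsz : 3 ≤ (P i).natDegree ∨ 4 ≤ Nat.card F) : Comm P := by
  intro V _ _ _ S x hb
  let e := (Fintype.equivFinOfCardEq hc).symm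
  have hei : e 0 = i := (Fintype.card_le_one_iff.1 hc.le) _ _
  have hb' := hb.reindex e
  have hn : (P i).natDegree = finrank F V := by
    rw [← hb'.sum, Fin.sum_univ_one, Function.comp_apply, hei]
  refine isComm_single ((BDec.det rfl hb).trans hd) hb'.dec (by simpa [hei] using h2) (by omega)

theorem comm_four (hF : 4 ≤ Nat.card F) : ∀ (n : ℕ) {ι : Type} [Fintype ι] {P : ι → F[X]},
    Fintype.card ι = n → Fam P → dprod P = 1 → Comm P := by
  intro n
  induction n using Nat.strong_induction_on with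
  | _ n ih =>
    intro ι _ P hn hP hd
    classical
    by_cases hdiff : ∃ i j, (P i).natDegree = 1 ∧ (P j).natDegree = 1 ∧ P i ≠ P j
    · obtain ⟨i, j, hi, hj, hij'⟩ := hdiff
      have hij : i ≠ j := fun h => hij' (by rw [h])
      have hco : IsCoprime (P i) (P j) := by
        rw [hP.linear hi, hP.linear hj]
        refine isCoprime_X_sub_C_of_isUnit_sub (sub_ne_zero.2 fun h => hij' ?_).isUnit
        rw [hP.linear hi, hP.linear hj, h]
      refine Comm.join i j hij hco (ih (n - 1) ?_ ?_ (fun l => ?_) ((dprod_join P (fun l => (hP l).1) i j hij).trans hd))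
      · have := Fintype.card_pos_iff.2 ⟨i⟩; omega
      · rw [Fintype.card_subtype_compl, Fintype.card_subtype_eq, hn]
      · split_ifs
        · exact ⟨(hP i).1.mul (hP j).1, by rw [natDegree_mul (hP i).1.ne_zero (hP j).1.ne_zero, hi, hj]; omega⟩
        · exact hP l
    push_neg at hdiff
    by_cases hone : ∃ i, P i = X - C 1
    · obtain ⟨i, hi⟩ := hone
      have hi1 : (P i).natDegree = 1 := by rw [hi, natDegree_X_sub_C]
      have hall : ∀ l : {l // (P l).natDegree = 1}, P l = X - C 1 := fun l => (hdiff l i l.2 hi1).trans hi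
      have hd1 : dprod (fun l : {l // (P l).natDegree = 1} => P l) = 1 := by
        refine Finset.prod_eq_one fun l _ => ?_
        show (-1 : F) ^ (P l).natDegree * (P l).coeff 0 = 1
        rw [hall, natDegree_X_sub_C]
        simp
      refine Comm.split (fun l => (P l).natDegree = 1) (comm_scalar hall hd1)
        (ih _ ?_ rfl (fun l => hP l) ?_)
      · rw [← hn]; exact Fintype.card_subtype_lt (x := i) (by simpa using hi1)
      · have := dprod_split P fun l => (P l).natDegree = 1
        rwa [hd1, one_mul, hd] at this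
    push_neg at hone
    by_cases hbig : ∃ i, 2 ≤ (P i).natDegree
    · obtain ⟨i₀, h0⟩ := hbig
      by_cases hc : Fintype.card ι = 1
      · exact comm_unique hd hc i₀ h0 (Or.inr hF)
      obtain ⟨i₁, hne⟩ := Fintype.exists_ne_of_one_lt_card
        (by have := Fintype.card_pos_iff.2 ⟨i₀⟩; omega) i₀
      exact comm_chain hP hd (by omega) hne h0 (fun l _ _ => ⟨hone l, Or.inr hF⟩) (Or.inr hF)
    push_neg at hbig
    rcases isEmpty_or_nonempty ι with h | ⟨⟨i⟩⟩
    · exact comm_empty P
    have h1 : ∀ l, (P l).natDegree = 1 := fun l => by have := hbig l; have := (hP l).2; omega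
    exact comm_scalar (ε := -(P i).coeff 0) (fun l => by rw [← hP.linear (h1 i)]; exact hdiff l i (h1 l) (h1 i)) hd

/-- The equivalence with a core. -/
noncomputable def coreEquiv {κ : Type} {m : ℕ} (f : Fin m → κ) (hf : Function.Injective f) :
    Fin m ≃ {i // ∃ a, f a = i} :=
  Equiv.ofBijective (fun a => ⟨f a, a, rfl⟩)
    ⟨fun _ _ h => hf (congrArg Subtype.val h), fun ⟨_, a, h⟩ => ⟨a, Subtype.ext h⟩⟩

/-- A core of a few blocks split off. -/
theorem Comm.core {m : ℕ} {P : ι → F[X]} (f : Fin m → ι) (hf : Function.Injective f) [DecidableEq ι]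
    {Q : Fin m → F[X]} (hQ : ∀ a, P (f a) = Q a) (h1 : Comm Q)
    (h2 : Comm fun i : {i // ¬ ∃ a, f a = i} => P i) : Comm P := by
  classical
  refine Comm.split (fun i => ∃ a, f a = i) (Comm.of_equiv (coreEquiv f hf) ?_) h2
  rwa [show ((fun i : {i // ∃ a, f a = i} => P i) ∘ coreEquiv f hf) = Q from funext hQ]

omit [Finite F] in
theorem dprod_core {m : ℕ} {P : ι → F[X]} (f : Fin m → ι) (hf : Function.Injective f) [DecidableEq ι]
    {Q : Fin m → F[X]} (hQ : ∀ a, P (f a) = Q a) (hd : dprod P = 1) (h1 : dprod Q = 1) :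
    dprod (fun i : {i // ¬ ∃ a, f a = i} => P i) = 1 := by
  classical
  have h3 : dprod (fun i : {i // ∃ a, f a = i} => P i) = dprod Q := by
    refine Eq.trans (dprod_reindex _ (coreEquiv f hf)).symm (congrArg dprod (funext hQ))
  have h := dprod_split P fun i => ∃ a, f a = i
  rwa [h3, h1, one_mul, hd] at h

omit [Finite F] [Fintype ι] in
theorem quad_eq {P : ι → F[X]} (hP : Fam P) {i : ι} (hi : (P i).natDegree = 2) :
    P i = X ^ 2 + C ((P i).coeff 1) * X + C ((P i).coeff 0) := by
  ext l
  rcases l with _ | _ | _ | l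
  · simp
  · simp [coeff_X_pow]
  · have := (hP i).1.coeff_natDegree
    rw [hi] at this
    simp [coeff_X_pow, this]
  · rw [coeff_eq_zero_of_natDegree_lt (by omega)]
    simp [coeff_X_pow, coeff_C, coeff_X]

theorem values_two (hF : Nat.card F = 2) (a : F) : a = 0 ∨ a = 1 := by
  obtain ⟨φ⟩ := exists_hom (p := 2) hF
  have hb : Function.Bijective φ :=
    (Nat.bijective_iff_injective_and_card φ).2 ⟨φ.injective, by simp [hF]⟩
  obtain ⟨z, rfl⟩ := hb.2 a
  rcases (show z = 0 ∨ z = 1 by revert z; decide) with rfl | rfl <;> simp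

theorem values_three (hF : Nat.card F = 3) (a : F) : a = 0 ∨ a = 1 ∨ a = -1 := by
  obtain ⟨φ⟩ := exists_hom (p := 3) hF
  have hb : Function.Bijective φ :=
    (Nat.bijective_iff_injective_and_card φ).2 ⟨φ.injective, by simp [hF]⟩
  obtain ⟨z, rfl⟩ := hb.2 a
  rcases (show z = 0 ∨ z = 1 ∨ z = -1 by revert z; decide) with rfl | rfl | rfl <;> simp

theorem linear_two (hF : Nat.card F = 2) {P : ι → F[X]} (hP : Fam P) {i : ι} (h0 : (P i).coeff 0 ≠ 0)
    (hi : (P i).natDegree = 1) : P i = X - C 1 := by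
  rw [hP.linear hi, ((values_two hF _).resolve_left (neg_ne_zero.2 h0))]

theorem quad_two (hF : Nat.card F = 2) {P : ι → F[X]} (hP : Fam P) {i : ι} (h0 : (P i).coeff 0 ≠ 0)
    (hi : (P i).natDegree = 2) : P i = X ^ 2 + C 0 * X + C 1 ∨ P i = X ^ 2 + C 1 * X + C 1 := by
  rw [quad_eq hP hi, (values_two hF _).resolve_left h0]
  rcases values_two hF ((P i).coeff 1) with h | h <;> rw [h]
  exacts [Or.inl rfl, Or.inr rfl]

theorem dprod_two (hF : Nat.card F = 2) {κ : Type*} [Fintype κ] {P : κ → F[X]} (h0 : ∀ i, (P i).coeff 0 ≠ 0) :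
    dprod P = 1 :=
  (values_two hF _).resolve_left (Finset.prod_ne_zero_iff.2 fun i _ => mul_ne_zero (pow_ne_zero _ (by simp)) (h0 i))

theorem comm_two_simple (hF : Nat.card F = 2) : ∀ (n : ℕ) {ι : Type} [Fintype ι] {P : ι → F[X]},
    Fintype.card ι = n → Fam P → dprod P = 1 → (∀ i, P i ≠ X ^ 2 + C 0 * X + C 1) → Comm P := by
  intro n
  induction n using Nat.strong_induction_on with
  | _ n ih =>
    intro ι _ P hn hP hd hT
    classical
    rcases isEmpty_or_nonempty ι with h | ⟨⟨i⟩⟩
    · exact comm_empty P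
    refine Comm.core (m := 1) (fun _ => i) (fun a b _ => Subsingleton.elim a b) (Q := fun _ => P i) (fun _ => rfl) ?_
      (ih _ ?_ rfl (fun l => hP l) (dprod_two hF fun l => coeff_ne_zero hd _) fun l => hT l)
    · by_cases h1 : (P i).natDegree = 1
      · refine comm_scalar (fun _ => linear_two hF hP (coeff_ne_zero hd i) h1) (dprod_two hF fun _ => coeff_ne_zero hd i)
      by_cases h2 : (P i).natDegree = 2
      · have h3 := (quad_two hF hP (coeff_ne_zero hd i) h2).resolve_left (hT i)
        have h4 := comm_c2 hF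
        refine Comm.of_equiv (Equiv.refl _) ?_
        rw [show ((fun _ : Fin 1 => P i) ∘ Equiv.refl (Fin 1)) = ![X ^ 2 + C (1 : F) * X + C 1] from
          funext fun a => by fin_cases a; simpa using h3]
        exact h4
      exact comm_unique (dprod_two hF fun _ => coeff_ne_zero hd i) (Fintype.card_fin 1) 0 (by have := (hP i).2; omega)
        (Or.inl (by have := (hP i).2; omega))
    · rw [← hn]; exact Fintype.card_subtype_lt (x := i) (by simp)

theorem comm_two_T (hF : Nat.card F = 2) : ∀ (n : ℕ) {ι : Type} [Fintype ι] {P : ι → F[X]},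
    Fintype.card ι = n → n ≠ 1 → (∀ i, P i = X ^ 2 + C 0 * X + C 1) → Comm P := by
  intro n
  induction n using Nat.strong_induction_on with
  | _ n ih =>
    intro ι _ P hn hn1 hT
    classical
    let e := (Fintype.equivFinOfCardEq hn).symm
    match n, hn1, hn, e, ih with
    | 0, _, hn, _, _ => haveI := Fintype.card_eq_zero_iff.1 hn; exact comm_empty P
    | 2, _, _, e, _ =>
      refine Comm.of_equiv e ?_
      rw [show P ∘ e = ![X ^ 2 + C (0 : F) * X + C 1, X ^ 2 + C 0 * X + C 1] from
        funext fun a => by fin_cases a <;> simp [hT]]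
      exact comm_tt hF
    | 3, _, _, e, _ =>
      refine Comm.of_equiv e ?_
      rw [show P ∘ e = ![X ^ 2 + C (0 : F) * X + C 1, X ^ 2 + C 0 * X + C 1, X ^ 2 + C 0 * X + C 1] from
        funext fun a => by fin_cases a <;> simp [hT]]
      exact comm_ttt hF
    | m + 4, _, hn, e, ih =>
      refine Comm.core (m := 2) (fun a => e (Fin.castLE (by omega) a))
        (fun a b h => Fin.castLE_injective _ (e.injective h))
        (Q := ![X ^ 2 + C (0 : F) * X + C 1, X ^ 2 + C 0 * X + C 1]) (fun a => by fin_cases a <;> simp [hT])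
        (comm_tt hF) (ih (m + 2) (by omega) ?_ (by omega) fun l => hT l)
      rw [Fintype.card_subtype_compl, hn, ← Fintype.card_congr (coreEquiv _
        (fun a b h => Fin.castLE_injective _ (e.injective h))), Fintype.card_fin]
      omega

theorem comm_two (hF : Nat.card F = 2) {P : ι → F[X]} (hP : Fam P) (hd : dprod P = 1)
    (hn : 3 ≤ ∑ i, (P i).natDegree) : Comm P := by
  classical
  let T : ι → Prop := fun i => P i = X ^ 2 + C 0 * X + C 1
  have h0 := coeff_ne_zero hd
  have hrest : Comm fun i : {i // ¬ T i} => P i :=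
    comm_two_simple hF _ rfl (fun l => hP l) (dprod_two hF fun l => h0 _) fun l => l.2
  by_cases hone : Fintype.card {i // T i} = 1
  · obtain ⟨⟨i, hi⟩, huniq⟩ := Fintype.card_eq_one_iff.1 hone
    have huT : ∀ l, T l → l = i := fun l hl => congrArg Subtype.val (huniq ⟨l, hl⟩)
    have hi2 : (P i).natDegree = 2 := by rw [hi]; exact natDegree_quad 0 1
    obtain ⟨j, hj⟩ : ∃ j, j ≠ i := by
      by_contra hc
      push_neg at hc
      rw [Fintype.sum_eq_single i fun l hl => absurd (hc l) hl] at hn
      omega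
    refine Comm.core (m := 2) ![i, j] ?_ (Q := ![P i, P j]) (fun a => by fin_cases a <;> rfl) ?_
      (comm_two_simple hF _ rfl (fun l => hP l) (dprod_two hF fun l => h0 _) fun l hl => l.2 ⟨0, (huT _ hl).symm⟩)
    · intro a b hab
      fin_cases a <;> fin_cases b <;> first | rfl | exact absurd hab hj | exact absurd hab.symm hj
    by_cases h1 : (P j).natDegree = 1
    · rw [hi, linear_two hF hP (h0 j) h1]
      exact comm_t1_2 hF
    by_cases h2 : (P j).natDegree = 2
    · rw [hi, (quad_two hF hP (h0 j) h2).resolve_left fun h => hj (huT j h)]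
      exact comm_tc hF
    intro V _ _ _ S x hb
    obtain ⟨φ⟩ := exists_hom (p := 2) hF
    have e0 := quad_kill (a := (0 : F)) (b := (1 : F)) (hb.kill 0) hi
    refine isComm_two_big (by rw [← map_ofNat φ 2, show (OfNat.ofNat 2 : ZMod 2) = 0 by decide, map_zero])
      ((BDec.det rfl hb).trans (dprod_two hF fun a => by fin_cases a <;> [exact h0 i; exact h0 j]))
      hb.dec hi2 (by show 3 ≤ (P j).natDegree; have := (hP j).2; omega) ?_
    rw [e0, neg_zero, zero_smul, zero_sub, one_smul]
    exact neg_self_two φ _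
  exact Comm.split T (comm_two_T hF _ rfl hone fun l => l.2) hrest

theorem comm_three_smalls (hF : Nat.card F = 3) {κ : Type} [Fintype κ] {P : κ → F[X]} (hP : Fam P) (hd : dprod P = 1)
    (h1 : ∀ i, (P i).natDegree = 1) : Comm P := by
  classical
  have hall : ∀ i : {i // P i = X - C 1}, P i = X - C 1 := fun i => i.2
  have hd1 : dprod (fun i : {i // P i = X - C 1} => P i) = 1 := by
    refine Finset.prod_eq_one fun l _ => ?_
    show (-1 : F) ^ (P l).natDegree * (P l).coeff 0 = 1
    rw [hall, natDegree_X_sub_C]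
    simp
  have hd2 := dprod_split P fun i => P i = X - C 1
  rw [hd1, one_mul, hd] at hd2
  refine Comm.split (fun i => P i = X - C 1) (comm_scalar hall hd1) (comm_scalar (ε := -1) (fun l => ?_) hd2)
  have h2 := hP.linear (h1 l)
  rcases values_three hF (-(P l).coeff 0) with h | h | h
  · exact absurd (neg_eq_zero.1 h) (coeff_ne_zero hd l)
  · exact absurd (by rw [h2, h]) l.2
  · rw [h2, h]

theorem comm_three (hF : Nat.card F = 3) {P : ι → F[X]} (hP : Fam P) (hd : dprod P = 1)
    (hn : 3 ≤ ∑ i, (P i).natDegree) : Comm P := by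
  classical
  have h0 := coeff_ne_zero hd
  have hlin : ∀ i, (P i).natDegree = 1 → P i = X - C 1 ∨ P i = X - C (-1) := fun i hi => by
    rcases values_three hF (-(P i).coeff 0) with h | h | h
    · exact absurd (neg_eq_zero.1 h) (h0 i)
    · exact Or.inl (by rw [hP.linear hi, h])
    · exact Or.inr (by rw [hP.linear hi, h])
  by_cases hsingle : ∃ i, (P i).natDegree = 2 ∧ ∀ l, l ≠ i → (P l).natDegree = 1
  · obtain ⟨i, hi, hothers⟩ := hsingle
    have hcore : ∀ {m : ℕ} (f : Fin m → ι) (Q : Fin m → F[X]), Function.Injective f → (∀ a, P (f a) = Q a) →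
        (∃ a, f a = i) → dprod Q = 1 → Comm Q → Comm P := fun f Q hf hQ hi' hQd hQc =>
      Comm.core f hf hQ hQc (comm_three_smalls hF (fun l => hP l) (dprod_core f hf hQ hd hQd) fun l =>
        hothers l fun e => l.2 (e ▸ hi'))
    have hrest := dprod_split P fun l => l = i
    rw [show dprod (fun l : {l // l = i} => P l) = (P i).coeff 0 by
      rw [dprod, Fintype.prod_subsingleton _ (⟨i, rfl⟩ : {l // l = i})]; simp [hi], hd] at hrest
    have hrestprod : ∀ c : F, (∀ l, l ≠ i → P l = X - C c) → c = 1 → (P i).coeff 0 = 1 := fun c hl hc => by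
      rw [← hrest, show dprod (fun l : {l // ¬ l = i} => P l) = 1 from Finset.prod_eq_one fun l _ => by
        show (-1 : F) ^ (P l).natDegree * (P l).coeff 0 = 1
        rw [hl l l.2, natDegree_X_sub_C, hc]
        simp, mul_one]
    have hi' := quad_eq hP hi
    rcases values_three hF ((P i).coeff 0) with h | hδ | hδ
    · exact absurd h (h0 i)
    · rcases values_three hF ((P i).coeff 1) with ha | ha | ha
      · refine hcore ![i] ![X ^ 2 + C (0 : F) * X + C 1] (fun a b _ => Subsingleton.elim a b)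
          (fun a => by fin_cases a; show P i = _; rw [hi', ha, hδ]; rfl) ⟨0, rfl⟩ ?_ (comm_i3 hF)
        simp only [dprod, Fin.prod_univ_succ, Fin.prod_univ_zero, Matrix.cons_val_zero, natDegree_quad]
        simp
      all_goals
        obtain ⟨j, hj⟩ : ∃ j, j ≠ i := by
          by_contra hc
          push_neg at hc
          rw [Fintype.sum_eq_single i fun l hl => absurd (hc l) hl] at hn
          omega
        by_cases hone : ∃ l, l ≠ i ∧ P l = X - C 1
        · obtain ⟨l, hl, hl1⟩ := hone
          refine hcore ![i, l] ![X ^ 2 + C _ * X + C 1, X - C 1] ?_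
            (fun a => by fin_cases a <;> [(show P i = _; rw [hi', ha, hδ]; rfl); exact hl1]) ⟨0, rfl⟩ ?_ ?_
          · intro a b hab
            fin_cases a <;> fin_cases b <;> first | rfl | exact absurd hab hl | exact absurd hab.symm hl
          · simp only [dprod, Fin.prod_univ_succ, Fin.prod_univ_zero, Matrix.cons_val_zero, Matrix.cons_val_succ, natDegree_quad,
            natDegree_X_sub_C]
            simp
          · first | exact comm_p1 hF | exact comm_m1 hF
        push_neg at hone
        have hminus : ∀ l, l ≠ i → P l = X - C (-1) := fun l hl =>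
          (hlin l (hothers l hl)).resolve_left (hone l hl)
        obtain ⟨k, hk, hkj⟩ : ∃ k, k ≠ i ∧ k ≠ j := by
          by_contra hc
          push_neg at hc
          have h2 : dprod (fun l : {l // ¬ l = i} => P l) = -1 := by
            rw [dprod, Fintype.prod_eq_single (⟨j, hj⟩ : {l // ¬ l = i}) fun l hl =>
              absurd (Subtype.ext (hc l l.2)) hl]
            show (-1 : F) ^ (P j).natDegree * (P j).coeff 0 = -1
            rw [hminus j hj, natDegree_X_sub_C]
            simp
          rw [h2, hδ, one_mul] at hrest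
          have h3 : (2 : F) = 0 := by linear_combination -hrest
          obtain ⟨φ⟩ := exists_hom (p := 3) hF
          exact absurd (φ.injective (show φ 2 = φ 0 by rw [map_ofNat, h3, map_zero])) (by decide)
        refine hcore ![i, j, k] ![X ^ 2 + C _ * X + C 1, X - C (-1), X - C (-1)] ?_
          (fun a => by fin_cases a <;> [(show P i = _; rw [hi', ha, hδ]; rfl); exact hminus j hj; exact hminus k hk])
          ⟨0, rfl⟩ ?_ ?_
        · intro a b hab
          fin_cases a <;> fin_cases b <;> first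
            | rfl | exact absurd hab hj | exact absurd hab.symm hj | exact absurd hab hk
            | exact absurd hab.symm hk | exact absurd hab hkj | exact absurd hab.symm hkj
        · simp only [dprod, Fin.prod_univ_succ, Fin.prod_univ_zero, Matrix.cons_val_zero, Matrix.cons_val_succ, natDegree_quad,
            natDegree_X_sub_C]
          simp
        · first | exact comm_pp hF | exact comm_mm hF
    · obtain ⟨j, hj, hj1⟩ : ∃ j, j ≠ i ∧ P j = X - C (-1) := by
        by_contra hc
        push_neg at hc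
        have h1 := hrestprod 1 (fun l hl => (hlin l (hothers l hl)).resolve_right (hc l hl)) rfl
        rw [hδ] at h1
        have h3 : (2 : F) = 0 := by linear_combination -h1
        obtain ⟨φ⟩ := exists_hom (p := 3) hF
        exact absurd (φ.injective (show φ 2 = φ 0 by rw [map_ofNat, h3, map_zero])) (by decide)
      rcases values_three hF ((P i).coeff 1) with ha | ha | ha
      all_goals
        refine hcore ![i, j] ![X ^ 2 + C _ * X + C (-1), X - C (-1)] ?_
          (fun a => by fin_cases a <;> [(show P i = _; rw [hi', ha, hδ]; rfl); exact hj1]) ⟨0, rfl⟩ ?_ ?_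
        · intro a b hab
          fin_cases a <;> fin_cases b <;> first | rfl | exact absurd hab hj | exact absurd hab.symm hj
        · simp only [dprod, Fin.prod_univ_succ, Fin.prod_univ_zero, Matrix.cons_val_zero, Matrix.cons_val_succ, natDegree_quad,
            natDegree_X_sub_C]
          simp
        · first | exact comm_z hF | exact comm_p hF | exact comm_n hF
  push_neg at hsingle
  by_cases hbig : ∃ i, 2 ≤ (P i).natDegree
  swap
  · push_neg at hbig
    exact comm_three_smalls hF hP hd fun l => by have := hbig l; have := (hP l).2; omega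
  obtain ⟨i₀, h02⟩ := hbig
  let Sm : ι → Prop := fun l => (P l).natDegree = 1
  -- keep at most one block of size one
  obtain ⟨p, hp, hpd, hpone⟩ : ∃ p : ι → Prop, (∀ l, p l → Sm l) ∧
      dprod (fun l : {l // p l} => P l) = 1 ∧
      ∀ l, Sm l → ¬ p l → P l ≠ X - C 1 ∧ ∀ l', Sm l' → ¬ p l' → l' = l := by
    have hval : dprod (fun l : {l // Sm l} => P l) ≠ 0 :=
      Finset.prod_ne_zero_iff.2 fun l _ => mul_ne_zero (pow_ne_zero _ (by simp)) (h0 l)
    rcases values_three hF (dprod fun l : {l // Sm l} => P l) with h | h | h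
    · exact absurd h hval
    · exact ⟨Sm, fun _ h => h, by convert h, fun l hl hn => absurd hl hn⟩
    · obtain ⟨j, hj, hj1⟩ : ∃ j, Sm j ∧ P j = X - C (-1) := by
        by_contra hc
        push_neg at hc
        have h1 : dprod (fun l : {l // Sm l} => P l) = 1 := Finset.prod_eq_one fun l _ => by
          show (-1 : F) ^ (P l).natDegree * (P l).coeff 0 = 1
          rw [(hlin l l.2).resolve_right (hc l l.2), natDegree_X_sub_C]
          simp
        rw [h] at h1
        have h3 : (2 : F) = 0 := by linear_combination -h1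
        obtain ⟨φ⟩ := exists_hom (p := 3) hF
        exact absurd (φ.injective (show φ 2 = φ 0 by rw [map_ofNat, h3, map_zero])) (by decide)
      refine ⟨fun l => Sm l ∧ l ≠ j, fun _ h => h.1, ?_, fun l hl hn => ?_⟩
      · have hs := dprod_split (fun l : {l // Sm l} => P l) fun l => (l : ι) = j
        rw [h, show dprod (fun l : {l : {l // Sm l} // (l : ι) = j} => P l.1) = -1 by
          rw [dprod, Fintype.prod_eq_single (⟨⟨j, hj⟩, rfl⟩ : {l : {l // Sm l} // (l : ι) = j})
            fun l hl => absurd (Subtype.ext (Subtype.ext l.2)) hl]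
          show (-1 : F) ^ (P j).natDegree * (P j).coeff 0 = -1
          rw [hj1, natDegree_X_sub_C]
          simp, neg_one_mul, neg_inj] at hs
        refine Eq.trans ?_ hs
        convert (dprod_reindex (fun l : {l // Sm l ∧ l ≠ j} => P l)
          (Equiv.subtypeSubtypeEquivSubtypeInter Sm fun l => ¬ l = j)).symm using 2
        rfl
      · obtain rfl : l = j := by by_contra hne; exact hn ⟨hl, hne⟩
        refine ⟨fun e => ?_, fun l' hl' hn' => by by_contra hne; exact hn' ⟨hl', hne⟩⟩
        rw [hj1, sub_right_inj, C_inj] at e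
        have h3 : (2 : F) = 0 := by linear_combination -e
        obtain ⟨φ⟩ := exists_hom (p := 3) hF
        exact absurd (φ.injective (show φ 2 = φ 0 by rw [map_ofNat, h3, map_zero])) (by decide)
  have hd' := dprod_split P p
  rw [hpd, one_mul, hd] at hd'
  refine Comm.split p (comm_three_smalls hF (fun l => hP l) hpd fun l => hp _ l.2) ?_
  have hnp : ¬ p i₀ := fun h => by have := hp _ h; simp only [Sm] at this; omega
  have hbl : ∀ l : {l // ¬ p l}, 1 ≤ (P l).natDegree := fun l => (hP l).2
  by_cases h2big : ∃ i₁, i₁ ≠ i₀ ∧ 2 ≤ (P i₁).natDegree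
  · obtain ⟨i₁', hne', h1'⟩ := h2big
    have hnp' : ¬ p i₁' := fun h => by have := hp _ h; simp only [Sm] at this; omega
    obtain ⟨i₁, hne, hs⟩ : ∃ i₁ : {l // ¬ p l}, i₁ ≠ ⟨i₀, hnp⟩ ∧
        ∀ l : {l // ¬ p l}, (P l).natDegree = 1 → l = i₁ := by
      by_cases hj : ∃ l : {l // ¬ p l}, (P l).natDegree = 1
      · obtain ⟨j, hj⟩ := hj
        refine ⟨j, fun e => ?_, fun l hl => Subtype.ext ((hpone j hj j.2).2 l hl l.2)⟩
        rw [e] at hj; simp only at hj; omega
      · exact ⟨⟨i₁', hnp'⟩, fun e => hne' (congrArg Subtype.val e), fun l hl => absurd ⟨l, hl⟩ hj⟩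
    refine comm_chain (fun l => hP l) hd' (by omega) hne h02
      (fun l _ hl => ⟨(hpone l hl l.2).1, Or.inl (hs l hl)⟩) (Or.inl ?_)
    have hsum := Fintype.sum_eq_add_sum_subtype_ne (fun l : {l // ¬ p l} => (P l).natDegree - 1) ⟨i₀, hnp⟩
    have hle : 1 ≤ ∑ l : {l : {l // ¬ p l} // l ≠ ⟨i₀, hnp⟩}, ((P l.1).natDegree - 1) :=
      le_trans (by show 1 ≤ (P i₁').natDegree - 1; omega) (Finset.single_le_sum
        (f := fun l : {l : {l // ¬ p l} // l ≠ ⟨i₀, hnp⟩} => (P l.1).natDegree - 1) (fun _ _ => Nat.zero_le _)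
        (Finset.mem_univ (⟨⟨i₁', hnp'⟩, fun e => hne' (congrArg Subtype.val e)⟩ :
          {l : {l // ¬ p l} // l ≠ ⟨i₀, hnp⟩})))
    have hsplit : ∑ l : {l // ¬ p l}, (P l).natDegree =
        ∑ l : {l // ¬ p l}, ((P l).natDegree - 1) + Fintype.card {l // ¬ p l} := by
      rw [Fintype.card, Finset.card_eq_sum_ones, ← Finset.sum_add_distrib]
      exact Finset.sum_congr rfl fun l _ => by have := hbl l; omega
    have h01 : 1 ≤ (P i₀).natDegree - 1 := by omega
    simp only at hsum hsplit ⊢
    omega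
  push_neg at h2big
  have h3 : 3 ≤ (P i₀).natDegree := by
    by_contra hc
    obtain ⟨l, hl, hl1⟩ := hsingle i₀ (by omega)
    have := h2big l hl
    have := (hP l).2
    omega
  have hothers : ∀ l, l ≠ i₀ → Sm l := fun l hl => by
    have := h2big l hl
    have := (hP l).2
    show (P l).natDegree = 1
    omega
  by_cases hj : ∃ l : {l // ¬ p l}, l ≠ ⟨i₀, hnp⟩
  · obtain ⟨j, hj⟩ := hj
    have hj1 : Sm j := hothers j fun e => hj (Subtype.ext e)
    refine comm_chain (fun l => hP l) hd' (by omega) hj h02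
      (fun l _ hl => ⟨(hpone l hl l.2).1, Or.inl (Subtype.ext ((hpone j hj1 j.2).2 l hl l.2))⟩) (Or.inl ?_)
    have hsum := Fintype.sum_eq_add_sum_subtype_ne (fun l : {l // ¬ p l} => (P l).natDegree) ⟨i₀, hnp⟩
    have hc : Fintype.card {l : {l // ¬ p l} // l ≠ ⟨i₀, hnp⟩} ≤
        ∑ l : {l : {l // ¬ p l} // l ≠ ⟨i₀, hnp⟩}, (P l.1).natDegree := by
      rw [Fintype.card, Finset.card_eq_sum_ones]
      exact Finset.sum_le_sum fun l _ => hbl l.1
    have hc' : Fintype.card {l : {l // ¬ p l} // l ≠ ⟨i₀, hnp⟩} + 1 = Fintype.card {l // ¬ p l} := by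
      rw [Fintype.card_subtype_compl, Fintype.card_subtype_eq]
      have := Fintype.card_pos_iff.2 ⟨(⟨i₀, hnp⟩ : {l // ¬ p l})⟩
      omega
    simp only at hsum hc ⊢
    omega
  push_neg at hj
  exact comm_unique hd' (Fintype.card_eq_one_iff.2 ⟨⟨i₀, hnp⟩, hj⟩) ⟨i₀, hnp⟩ h02 (Or.inl h3)

/-- Every endomorphism of determinant one is a commutator. -/
theorem isComm_of_det {V : Type u} [AddCommGroup V] [Module F V] [FiniteDimensional F V] (S : End F V)
    (hS : LinearMap.det S = 1) (hn : 2 ≤ finrank F V) (hex : finrank F V = 2 → 4 ≤ Nat.card F) : IsComm S := by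
  classical
  obtain ⟨m, x, P, hb⟩ := exists_bdec S
  let pz : Fin m → Prop := fun i => (P i).natDegree = 0
  obtain ⟨hc, y, hy⟩ := hb.split pz
  obtain ⟨-, y', hy'⟩ := hb.split fun i => ¬ pz i
  have hz : finrank F (orb S x pz) = 0 := by
    rw [← hy.sum]; exact Finset.sum_eq_zero fun i _ => i.2
  have hsum : ∑ i : {i // ¬ pz i}, (P i).natDegree = finrank F V := by
    rw [hy'.sum, ← Submodule.finrank_add_eq_of_isCompl hc, hz, zero_add]
  have hd' : dprod (fun i : {i // ¬ pz i} => P i) = 1 := by
    have h1 := dprod_split P pz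
    rw [← BDec.det rfl hb, hS, ← BDec.det rfl hy, LinearMap.det_eq_one_of_finrank_eq_zero hz, one_mul] at h1
    exact h1
  have hP : Fam fun i : {i // ¬ pz i} => P i := fun i => ⟨hb.monic i, Nat.pos_of_ne_zero i.2⟩
  have hcomm : Comm fun i : {i // ¬ pz i} => P i := by
    rcases Nat.lt_or_ge (Nat.card F) 4 with hlt | hge
    · have h2 := Finite.one_lt_card (α := F)
      have h3 : 3 ≤ ∑ i : {i // ¬ pz i}, (P i).natDegree := by
        rw [hsum]
        by_contra hc'
        have := hex (by omega)
        omega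
      rcases (show Nat.card F = 2 ∨ Nat.card F = 3 by omega) with h | h
      exacts [comm_two h hP hd' h3, comm_three h hP hd' h3]
    · exact comm_four hge _ rfl hP hd'
  rw [restrict_conj hc (orb_inv S x pz) (orb_inv S x fun i => ¬ pz i)]
  exact isComm_conj _ (isComm_prodMap (isComm_of_finrank_zero _ hz) (hcomm _ _ _ hy'))

end CfsgLib.SLComm
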