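import Cfsg.Agent.Lib.SLComm.Cyclic

/-!
A centraliser containing the multiplicative group of a finite field extension has every determinant.
-/

set_option autoImplicit false

namespace CfsgLib.SLComm

open Polynomial Module

universe u

variable {F : Type u} [Field F] [Finite F]
variable {V : Type u} [AddCommGroup V] [Module F V] [FiniteDimensional F V]

/-- The polynomial has an irreducible factor of multiplicity one without the root one. -/
def GoodFactor (P : F[X]) : Prop :=
  ∃ A h : F[X], Irreducible h ∧ h.eval 1 ≠ 0 ∧ P = A * h ∧ IsCoprime A h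

theorem exists_det_commute {f : End F V} {A h : F[X]} (hf : Cyc f (A * h)) (hirr : Irreducible h)
    (hco : IsCoprime A h) {d : F} (hd : d ≠ 0) :
    ∃ e : End F V, e * f = f * e ∧ LinearMap.det e = d := by
  classical
  haveI : Fact (Irreducible h) := ⟨hirr⟩
  let pb := AdjoinRoot.powerBasis hirr.ne_zero
  haveI : Module.Finite F (AdjoinRoot h) := pb.finite
  haveI : _root_.Finite (AdjoinRoot h) := Module.finite_of_finite F
  obtain ⟨g, hg⟩ := FiniteField.norm_surjective F (AdjoinRoot h) d
  obtain ⟨q, rfl⟩ := AdjoinRoot.mk_surjective g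
  obtain ⟨α, β, hαβ⟩ := id hco
  obtain ⟨v, hv⟩ := hf.2.2.2
  set π : F[X] := α * A with hπ
  set e : End F V := aeval f ((1 - π) + π * q) with he
  refine ⟨e, ?_, ?_⟩
  · have h1 := ((Commute.all ((1 - π) + π * q) (X : F[X])).map (aeval (R := F) f)).eq
    rwa [aeval_X] at h1
  set K₁ := LinearMap.ker (aeval f A)
  set K₂ := LinearMap.ker (aeval f h)
  have hzero : aeval f (A * h) = 0 := hf.2.2.1
  have hc : IsCompl K₁ K₂ := by
    constructor
    · rw [disjoint_iff, eq_bot_iff]
      rintro z ⟨h1, h2⟩
      have : aeval f (α * A + β * h) z = 0 := by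
        rw [map_add, LinearMap.add_apply, map_mul, map_mul, Module.End.mul_apply, Module.End.mul_apply,
          LinearMap.mem_ker.1 h1, LinearMap.mem_ker.1 h2, map_zero, map_zero, add_zero]
      rwa [hαβ, map_one, Module.End.one_apply] at this
    · rw [codisjoint_iff, eq_top_iff]
      intro z _
      refine Submodule.mem_sup.2 ⟨aeval f (β * h) z, ?_, aeval f (α * A) z, ?_, ?_⟩
      · rw [LinearMap.mem_ker, ← Module.End.mul_apply, ← map_mul, show A * (β * h) = β * (A * h) by ring, map_mul,
          hzero, mul_zero, LinearMap.zero_apply]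
      · rw [LinearMap.mem_ker, ← Module.End.mul_apply, ← map_mul, show h * (α * A) = α * (A * h) by ring, map_mul,
          hzero, mul_zero, LinearMap.zero_apply]
      · rw [← LinearMap.add_apply, ← map_add, show β * h + α * A = 1 by rw [← hαβ]; ring, map_one, Module.End.one_apply]
  have hg₂ : ∀ z, aeval f h z = 0 → aeval f π z = z := fun z hz => by
    have h1 : aeval f (α * A + β * h) z = z := by rw [hαβ, map_one, Module.End.one_apply]
    rwa [map_add, LinearMap.add_apply, map_mul _ β, Module.End.mul_apply, hz, map_zero, add_zero] at h1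
  have hinv : ∀ (p : F[X]) (z : V), aeval f h z = 0 → aeval f h (aeval f p z) = 0 := fun p z hz => by
    rw [← Module.End.mul_apply, ← map_mul, mul_comm, map_mul, Module.End.mul_apply, hz, map_zero]
  set w := aeval f π v
  have hw : aeval f h w = 0 := by
    rw [← Module.End.mul_apply, ← map_mul, show h * π = α * (A * h) by rw [hπ]; ring, map_mul, hzero, mul_zero,
      LinearMap.zero_apply]
  -- the second part is the extension field
  let φ : F[X] →ₗ[F] K₂ :=
    ((LinearMap.applyₗ w).comp (aeval f).toLinearMap).codRestrict K₂ fun p => LinearMap.mem_ker.2 (hinv p w hw)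
  have hsurjφ : Function.Surjective φ := fun z => by
    obtain ⟨p, hp⟩ := hv (z : V)
    refine ⟨p, Subtype.ext ?_⟩
    show aeval f p w = (z : V)
    rw [← hg₂ z (LinearMap.mem_ker.1 z.2), ← hp, ← Module.End.mul_apply, ← map_mul, mul_comm, map_mul,
      Module.End.mul_apply]
  have hker : ∀ p, φ p = 0 ↔ h ∣ p := fun p => by
    constructor
    · intro hp
      have h1 : aeval f (p * π) v = 0 := by
        rw [map_mul, Module.End.mul_apply]; exact congrArg Subtype.val hp
      have h2 : h ∣ p * π := (dvd_mul_left h A).trans (hf.dvd hv h1)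
      refine ((hirr.prime.dvd_or_dvd h2).resolve_right fun hπd => ?_)
      refine hirr.not_isUnit (isUnit_of_dvd_one ?_)
      rw [← hαβ]
      exact dvd_add hπd (dvd_mul_left h β)
    · rintro ⟨c, rfl⟩
      refine Subtype.ext ?_
      show aeval f (h * c) w = 0
      rw [mul_comm, map_mul, Module.End.mul_apply, hw, map_zero]
  let ψ : K₂ →ₗ[F] AdjoinRoot h :=
    { toFun := fun z => AdjoinRoot.mk h (Function.surjInv hsurjφ z)
      map_add' := fun a b => by
        rw [← map_add, AdjoinRoot.mk_eq_mk, ← hker, map_sub, map_add, Function.surjInv_eq hsurjφ,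
          Function.surjInv_eq hsurjφ, Function.surjInv_eq hsurjφ, sub_self]
      map_smul' := fun c a => by
        rw [RingHom.id_apply, AdjoinRoot.smul_mk, AdjoinRoot.mk_eq_mk, ← hker, map_sub, map_smul,
          Function.surjInv_eq hsurjφ, Function.surjInv_eq hsurjφ, sub_self] }
  have hψ : ∀ p, ψ (φ p) = AdjoinRoot.mk h p := fun p => by
    show AdjoinRoot.mk h _ = _
    rw [AdjoinRoot.mk_eq_mk, ← hker, map_sub, Function.surjInv_eq hsurjφ, sub_self]
  have hψb : Function.Bijective ψ := by
    refine ⟨(injective_iff_map_eq_zero ψ).2 fun z hz => ?_, fun y => ?_⟩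
    · obtain ⟨p, rfl⟩ := hsurjφ z
      rw [hψ, AdjoinRoot.mk_eq_zero] at hz
      exact (hker p).2 hz
    · obtain ⟨p, rfl⟩ := AdjoinRoot.mk_surjective y
      exact ⟨_, hψ p⟩
  let Ψ := LinearEquiv.ofBijective ψ hψb
  -- the map on the two parts
  have heh : ∀ z, aeval f h z = 0 → e z = aeval f q z := fun z hz => by
    rw [he, map_add, map_sub, map_one, map_mul _ π q, LinearMap.add_apply, LinearMap.sub_apply, Module.End.one_apply,
      Module.End.mul_apply, hg₂ z hz, sub_self, zero_add, hg₂ _ (hinv q z hz)]
  have heA : ∀ z ∈ K₁, e z = z := fun z hz => by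
    have hπ0 : ∀ p : F[X], aeval f (π * p) z = 0 := fun p => by
      rw [show π * p = (α * p) * A by rw [hπ]; ring, map_mul, Module.End.mul_apply, LinearMap.mem_ker.1 hz, map_zero]
    rw [he, map_add, map_sub, LinearMap.add_apply, LinearMap.sub_apply, hπ0, map_one, Module.End.one_apply,
      show aeval f π z = 0 by simpa using hπ0 1, sub_zero, add_zero]
  let e₂ : End F K₂ := e.restrict (p := K₂) (q := K₂) fun z hz => by
    rw [LinearMap.mem_ker, heh z (LinearMap.mem_ker.1 hz)]
    exact hinv q z (LinearMap.mem_ker.1 hz)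
  have hconj : LinearMap.det e = LinearMap.det (LinearMap.prodMap (LinearMap.id : End F K₁) e₂) := by
    let E := Submodule.prodEquivOfIsCompl K₁ K₂ hc
    rw [← LinearMap.det_conj (LinearMap.prodMap (LinearMap.id : End F K₁) e₂) E]
    congr 1
    refine LinearMap.ext fun z => ?_
    obtain ⟨⟨a, b⟩, rfl⟩ := E.surjective z
    simp only [LinearMap.comp_apply, LinearEquiv.coe_coe, LinearEquiv.symm_apply_apply, LinearMap.prodMap_apply]
    show e (E (a, b)) = E (a, e₂ b)
    rw [Submodule.coe_prodEquivOfIsCompl' (h := hc), Submodule.coe_prodEquivOfIsCompl' (h := hc), map_add, heA a a.2]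
    rfl
  rw [hconj, LinearMap.det_prodMap, LinearMap.det_id, one_mul, ← LinearMap.det_conj e₂ Ψ, ← hg, Algebra.norm_apply]
  congr 1
  refine LinearMap.ext fun y => ?_
  obtain ⟨p, rfl⟩ := AdjoinRoot.mk_surjective y
  simp only [LinearMap.comp_apply, LinearEquiv.coe_coe, Algebra.coe_lmul_eq_mul, LinearMap.mul_apply']
  rw [← hψ p, show Ψ.symm (ψ (φ p)) = φ p from Ψ.symm_apply_apply _, hψ p, ← map_mul,
    ← hψ (q * p)]
  refine congrArg ψ (Subtype.ext ?_)
  show e (aeval f p w) = aeval f (q * p) w
  rw [map_mul, Module.End.mul_apply, heh _ (hinv p w hw)]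

end CfsgLib.SLComm
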