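import Mathlib

/-!
Cyclic endomorphisms for the commutator theorem in special linear groups: uniqueness up to
similarity, extensions, and inverses.
-/

set_option autoImplicit false

namespace CfsgLib.SLComm

open Polynomial Module

universe u

variable {F : Type u} [Field F]
variable {V : Type u} [AddCommGroup V] [Module F V] [FiniteDimensional F V]
variable {W : Type u} [AddCommGroup W] [Module F W] [FiniteDimensional F W]

/-- `f` is cyclic with monic polynomial `P`. -/
def Cyc (f : End F V) (P : F[X]) : Prop :=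
  P.Monic ∧ P.natDegree = finrank F V ∧ aeval f P = 0 ∧ ∃ v, ∀ w, ∃ p : F[X], aeval f p v = w

theorem cyc_mk {f : End F V} {P : F[X]} (hm : P.Monic) (hd : P.natDegree = finrank F V) {v : V}
    (hgen : ∀ w, ∃ p : F[X], aeval f p v = w) (hv : aeval f P v = 0) : Cyc f P := by
  refine ⟨hm, hd, LinearMap.ext fun w => ?_, v, hgen⟩
  obtain ⟨p, rfl⟩ := hgen w
  rw [LinearMap.zero_apply, ← Module.End.mul_apply, ← map_mul, mul_comm, map_mul, Module.End.mul_apply, hv, map_zero]

/-- A cyclic vector detects the polynomials killing `f`. -/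
theorem Cyc.dvd {f : End F V} {P : F[X]} (h : Cyc f P) {v : V} (hgen : ∀ w, ∃ p : F[X], aeval f p v = w)
    {p : F[X]} (hp : aeval f p v = 0) : P ∣ p := by
  have hspan : ∀ w, ∃ q : F[X], q.natDegree < finrank F V + 1 ∧ aeval f q v = w ∧ q.degree < P.degree := by
    intro w
    obtain ⟨q, rfl⟩ := hgen w
    have hlt : (q %ₘ P).degree < P.degree := degree_modByMonic_lt _ h.1
    refine ⟨q %ₘ P, ?_, ?_, hlt⟩
    · have := natDegree_le_natDegree hlt.le
      rw [h.2.1] at this
      omega
    · conv_rhs => rw [← modByMonic_add_div q P]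
      rw [map_add, map_mul, h.2.2.1, zero_mul, add_zero]
  let φ : Polynomial.degreeLT F P.natDegree →ₗ[F] V :=
    ((LinearMap.applyₗ v).comp (aeval f).toLinearMap).comp (Polynomial.degreeLT F P.natDegree).subtype
  have hsurj : Function.Surjective φ := fun w => by
    obtain ⟨q, -, hq, hlt⟩ := hspan w
    exact ⟨⟨q, mem_degreeLT.2 (by rwa [← degree_eq_natDegree h.1.ne_zero])⟩, hq⟩
  have hinj : Function.Injective φ := by
    refine (LinearMap.injective_iff_surjective_of_finrank_eq_finrank ?_).2 hsurj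
    rw [LinearEquiv.finrank_eq (Polynomial.degreeLTEquiv F P.natDegree), finrank_fin_fun, h.2.1]
  refine (modByMonic_eq_zero_iff_dvd h.1).1 ?_
  have h0 : aeval f (p %ₘ P) v = 0 := by
    have : aeval f p = aeval f (p %ₘ P) := by
      conv_lhs => rw [← modByMonic_add_div p P]
      rw [map_add, map_mul, h.2.2.1, zero_mul, add_zero]
    rwa [← this]
  have h1 := @hinj ⟨p %ₘ P, mem_degreeLT.2 (by
    rw [← degree_eq_natDegree h.1.ne_zero]; exact degree_modByMonic_lt _ h.1)⟩ 0 (by rw [map_zero]; exact h0)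
  exact congrArg Subtype.val h1

/-- Cyclic endomorphisms with the same polynomial are similar. -/
theorem Cyc.similar {f : End F V} {g : End F W} {P : F[X]} (hf : Cyc f P) (hg : Cyc g P) :
    ∃ e : V ≃ₗ[F] W, ∀ x, e (f x) = g (e x) := by
  obtain ⟨v, hv⟩ := hf.2.2.2
  obtain ⟨w, hw⟩ := hg.2.2.2
  let α : F[X] →ₗ[F] V := (LinearMap.applyₗ v).comp (aeval f).toLinearMap
  let β : F[X] →ₗ[F] W := (LinearMap.applyₗ w).comp (aeval g).toLinearMap
  have hker : LinearMap.ker α ≤ LinearMap.ker β := fun p hp => by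
    obtain ⟨c, rfl⟩ := hf.dvd hv (LinearMap.mem_ker.1 hp)
    show aeval g (P * c) w = 0
    rw [map_mul, hg.2.2.1, zero_mul, LinearMap.zero_apply]
  choose q hq using hv
  let e₀ : V →ₗ[F] W :=
    { toFun := fun x => β (q x)
      map_add' := fun x y => by
        rw [← map_add, ← sub_eq_zero, ← map_sub, ← LinearMap.mem_ker]
        apply hker
        rw [LinearMap.mem_ker, map_sub, map_add]
        show aeval f _ v - (aeval f _ v + aeval f _ v) = 0
        rw [hq, hq, hq, sub_self]
      map_smul' := fun c x => by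
        rw [RingHom.id_apply, ← map_smul, ← sub_eq_zero, ← map_sub, ← LinearMap.mem_ker]
        apply hker
        rw [LinearMap.mem_ker, map_sub, map_smul]
        show aeval f _ v - c • aeval f _ v = 0
        rw [hq, hq, sub_self] }
  have he₀ : ∀ p : F[X], e₀ (aeval f p v) = aeval g p w := fun p => by
    show β (q _) = β p
    rw [← sub_eq_zero, ← map_sub, ← LinearMap.mem_ker]
    apply hker
    rw [LinearMap.mem_ker, map_sub]
    show aeval f _ v - aeval f _ v = 0
    rw [hq, sub_self]
  have hsurj : Function.Surjective e₀ := fun y => by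
    obtain ⟨p, rfl⟩ := hw y
    exact ⟨_, he₀ p⟩
  have hinj : Function.Injective e₀ :=
    (LinearMap.injective_iff_surjective_of_finrank_eq_finrank (hf.2.1.symm.trans hg.2.1)).2 hsurj
  refine ⟨LinearEquiv.ofBijective e₀ ⟨hinj, hsurj⟩, fun x => ?_⟩
  show e₀ (f x) = g (e₀ x)
  rw [← hq x, he₀, show f (aeval f (q x) v) = aeval f (X * q x) v by rw [map_mul, aeval_X, Module.End.mul_apply],
    he₀, map_mul, aeval_X, Module.End.mul_apply]

theorem Cyc.det {f : End F V} {P : F[X]} (h : Cyc f P) :
    LinearMap.det f = (-1) ^ finrank F V * P.coeff 0 := by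
  obtain ⟨v, hv⟩ := h.2.2.2
  have e : f.charpoly = P := by
    refine (eq_of_monic_of_dvd_of_natDegree_le h.1 f.charpoly_monic
      (h.dvd hv (p := f.charpoly) (by rw [LinearMap.aeval_self_charpoly, LinearMap.zero_apply])) ?_)
    rw [LinearMap.charpoly_natDegree, h.2.1]
  rw [← e, LinearMap.det_eq_sign_charpoly_coeff]

/-- The polynomial of an invertible map determines that of its inverse. -/
theorem Cyc.inv {f g : End F V} {P Q : F[X]} (h : Cyc f P) (hfg : f * g = 1) (hQm : Q.Monic)
    (hQd : Q.natDegree = P.natDegree) (hQ : aeval g Q = 0) : Cyc g Q := by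
  obtain ⟨v, hv⟩ := h.2.2.2
  have hgf : g * f = 1 := mul_eq_one_comm.1 hfg
  -- `f` is a polynomial in `g`
  obtain ⟨t, ht⟩ : ∃ t : F[X], aeval g t = f := by
    have h0 : Q.coeff 0 ≠ 0 ∨ Q.coeff 0 = 0 := (ne_or_eq _ _)
    have hint : IsIntegral F g := IsIntegral.of_finite F g
    have hm0 : (minpoly F g).coeff 0 ≠ 0 := by
      intro hz
      obtain ⟨r, hr⟩ := X_dvd_iff.2 hz
      have hm := minpoly.aeval F g
      rw [hr, map_mul, aeval_X] at hm
      have : aeval g r = 0 := by
        have h2 := congrArg (f * ·) hm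
        simpa only [← mul_assoc, hfg, one_mul, mul_zero] using h2
      have hne : r ≠ 0 := fun e => minpoly.ne_zero hint (by rw [hr, e, mul_zero])
      have := natDegree_le_of_dvd (minpoly.dvd F g this) hne
      rw [hr, natDegree_mul X_ne_zero hne, natDegree_X] at this
      omega
    refine ⟨-C ((minpoly F g).coeff 0)⁻¹ * (minpoly F g).divX, ?_⟩
    have hm := minpoly.aeval F g
    conv_lhs at hm => rw [← X_mul_divX_add (minpoly F g)]
    rw [map_add, map_mul, aeval_X, aeval_C, add_eq_zero_iff_eq_neg] at hm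
    have hd : aeval g (minpoly F g).divX = -((minpoly F g).coeff 0 • f) := by
      have h2 := congrArg (f * ·) hm
      simp only [← mul_assoc, hfg, one_mul, mul_neg, ← Algebra.smul_def, mul_smul_comm, mul_one,
        Algebra.algebraMap_eq_smul_one] at h2
      exact h2
    rw [map_mul, map_neg, aeval_C, hd, neg_mul_neg, ← Algebra.smul_def, inv_smul_smul₀ hm0]
  refine ⟨hQm, hQd.trans h.2.1, hQ, v, fun w => ?_⟩
  obtain ⟨p, rfl⟩ := hv w
  exact ⟨p.comp t, by rw [aeval_comp, ht]⟩

/-- Gluing along an invariant subspace with coprime polynomials. -/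
theorem cyc_coprime {f : End F V} {W₀ : Submodule F V} {w₀ x : V} {P h : F[X]} (hP : P.Monic) (hh : h.Monic)
    (hPh : IsCoprime P h) (hdim : P.natDegree + h.natDegree = finrank F V) (hw₀ : w₀ ∈ W₀)
    (hW : ∀ w ∈ W₀, ∃ p : F[X], aeval f p w₀ = w) (hPw : aeval f P w₀ = 0) (hhx : aeval f h x ∈ W₀)
    (hspan : ∀ y, ∃ p : F[X], ∃ w ∈ W₀, y = aeval f p x + w) : Cyc f (P * h) := by
  obtain ⟨a, b, hab⟩ := hPh
  obtain ⟨q, hq⟩ := hW _ hhx
  -- correct `x` into the kernel of `h`
  set z := x - aeval f (b * q) w₀ with hz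
  have hzh : aeval f h z = 0 := by
    have e : aeval f (h * (b * q)) w₀ = aeval f q w₀ := by
      rw [show h * (b * q) = q * 1 - a * q * P by rw [← hab]; ring, map_sub, LinearMap.sub_apply, mul_one,
        map_mul, Module.End.mul_apply, hPw, map_zero, sub_zero]
    rw [hz, map_sub, ← hq, ← Module.End.mul_apply, ← map_mul, e, sub_self]
  refine cyc_mk (hP.mul hh) (by rw [natDegree_mul hP.ne_zero hh.ne_zero, hdim]) (v := w₀ + z) ?_ ?_
  · have hw₁ : aeval f (b * h) (w₀ + z) = w₀ := by
      rw [map_add, map_mul, Module.End.mul_apply, Module.End.mul_apply, hzh, map_zero, add_zero,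
        ← Module.End.mul_apply, ← map_mul, show b * h = 1 - a * P by rw [← hab]; ring, map_sub, LinearMap.sub_apply,
        map_one, Module.End.one_apply, map_mul, Module.End.mul_apply, hPw, map_zero, sub_zero]
    intro y
    obtain ⟨p, w, hw, rfl⟩ := hspan y
    obtain ⟨r, rfl⟩ := hW w hw
    refine ⟨(p * (b * q) + r) * (b * h) + p * (1 - b * h), ?_⟩
    rw [map_add (aeval (R := F) f), LinearMap.add_apply, map_mul _ _ (b * h), Module.End.mul_apply, hw₁, map_mul _ p,
      Module.End.mul_apply, map_sub (aeval (R := F) f), LinearMap.sub_apply, map_one, Module.End.one_apply, hw₁,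
      add_sub_cancel_left, map_add (aeval (R := F) f), LinearMap.add_apply, map_mul _ p, Module.End.mul_apply, hz, map_sub]
    abel
  · rw [map_add, map_mul, Module.End.mul_apply, Module.End.mul_apply, hzh, map_zero, add_zero,
      ← Module.End.mul_apply, ← map_mul, mul_comm, map_mul, Module.End.mul_apply, hPw, map_zero]

/-- Adding the eigenvalue one on top: the lower form. -/
theorem cyc_cons {f : End F V} {W₀ : Submodule F V} {w₀ x : V} {P : F[X]} (hP : P.Monic)
    (hdim : P.natDegree + 1 = finrank F V) (hw₀ : w₀ ∈ W₀)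
    (hW : ∀ w ∈ W₀, ∃ p : F[X], aeval f p w₀ = w) (hPw : aeval f P w₀ = 0) (hWinv : ∀ w ∈ W₀, f w ∈ W₀) (hx : f x - x ∈ W₀)
    (hspan : ∀ y, ∃ c : F, ∃ w ∈ W₀, y = c • x + w)
    (hlink : P.eval 1 ≠ 0 ∨ ∃ φ : V →ₗ[F] F, (∀ w ∈ W₀, φ (f w) = φ w) ∧ φ (f x - x) ≠ 0) :
    Cyc f ((X - 1) * P) := by
  obtain ⟨g, hg⟩ := hW _ hx
  have hgg : ∃ q r : F[X], g + (X - 1) * q = r ∧ ∃ s : F[X], aeval f (s * r) w₀ = w₀ := by
    rcases hlink with hne | ⟨φ, hφ, hφx⟩
    · have hc : IsCoprime (X - 1 : F[X]) P := by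
        rw [← map_one C, (irreducible_X_sub_C (1 : F)).coprime_iff_not_dvd, dvd_iff_isRoot]
        exact hne
      obtain ⟨a, b, hab⟩ := hc
      refine ⟨(1 - g) * a, g + (X - 1) * ((1 - g) * a), rfl, 1, ?_⟩
      rw [show (1 : F[X]) * (g + (X - 1) * ((1 - g) * a)) = 1 - (1 - g) * b * P by
        linear_combination (1 - g) * hab, map_sub, LinearMap.sub_apply, map_one, Module.End.one_apply,
        map_mul, Module.End.mul_apply, hPw, map_zero, sub_zero]
    · have hinv : ∀ n : ℕ, φ ((f ^ n) w₀) = φ w₀ ∧ (f ^ n) w₀ ∈ W₀ := fun n => by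
        induction n with
        | zero => exact ⟨rfl, hw₀⟩
        | succ n ih =>
          rw [pow_succ', Module.End.mul_apply]
          exact ⟨(hφ _ ih.2).trans ih.1, hWinv _ ih.2⟩
      have hgen : ∀ p : F[X], φ (aeval f p w₀) = p.eval 1 * φ w₀ := fun p => by
        induction p using Polynomial.induction_on' with
        | add p q hp hq => simp only [map_add, LinearMap.add_apply, hp, hq, eval_add, add_mul]
        | monomial n c =>
          rw [aeval_monomial, eval_monomial, one_pow, mul_one, Module.algebraMap_end_eq_smul_id]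
          simp only [Module.End.mul_apply, LinearMap.smul_apply, LinearMap.id_apply, map_smul, smul_eq_mul,
            (hinv n).1]
      have hg1 : g.eval 1 ≠ 0 := fun e => hφx (by rw [← hg, hgen, e, zero_mul])
      obtain ⟨q, hq⟩ : (X - 1 : F[X]) ∣ C (g.eval 1) - g := by
        rw [← map_one C, dvd_iff_isRoot]; simp
      refine ⟨q, C (g.eval 1), by rw [← hq]; ring, C (g.eval 1)⁻¹, ?_⟩
      rw [← map_mul, inv_mul_cancel₀ hg1, map_one, map_one, Module.End.one_apply]
  obtain ⟨q, r, hqr, s, hs⟩ := hgg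
  set v := x + aeval f q w₀
  have hv : aeval f (X - 1 : F[X]) v = aeval f r w₀ := by
    rw [← hqr]
    simp only [v, map_add, LinearMap.add_apply, map_mul, Module.End.mul_apply, hg]
    simp
  refine cyc_mk (by simpa using (monic_X_sub_C (1 : F)).mul hP) ?_ (v := v) ?_ ?_
  · rw [natDegree_mul (by simpa using (monic_X_sub_C (1 : F)).ne_zero) hP.ne_zero,
      show (X - 1 : F[X]).natDegree = 1 by simpa using natDegree_X_sub_C (1 : F), add_comm, hdim]
  · have hw₁ : aeval f (s * (X - 1)) v = w₀ := by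
      rw [map_mul, Module.End.mul_apply, hv, ← Module.End.mul_apply, ← map_mul, hs]
    intro y
    obtain ⟨c, w, hw, rfl⟩ := hspan y
    obtain ⟨p, rfl⟩ := hW w hw
    refine ⟨C c + (p - C c * q) * (s * (X - 1)), ?_⟩
    rw [map_add (aeval (R := F) f), LinearMap.add_apply, map_mul _ _ (s * (X - 1)), Module.End.mul_apply, hw₁,
      map_sub (aeval (R := F) f), LinearMap.sub_apply, map_mul, Module.End.mul_apply, aeval_C]
    simp only [Module.algebraMap_end_apply, v, smul_add]
    abel
  · rw [mul_comm, map_mul, Module.End.mul_apply, hv, ← Module.End.mul_apply, ← map_mul, mul_comm, map_mul,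
      Module.End.mul_apply, hPw, map_zero]

end CfsgLib.SLComm
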