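import Cfsg.Agent.Lib.SLComm.Step

/-!
Decompositions into orbits and the merge of two of them.
-/

set_option autoImplicit false

namespace CfsgLib.SLComm

open Polynomial Module

universe u

variable {F : Type u} [Field F] [Finite F]
variable {V : Type u} [AddCommGroup V] [Module F V] [FiniteDimensional F V]

/-- A decomposition into cyclic blocks. -/
structure Dec (S : End F V) {r : ℕ} (x : Fin r → V) (k : Fin r → ℕ) : Prop where
  sum : ∑ a, k a = finrank F V
  kill : ∀ a, ∃ P : F[X], P.Monic ∧ P.natDegree = k a ∧ aeval S P (x a) = 0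
  span : ∀ z, ∃ p : Fin r → F[X], z = ∑ a, aeval S (p a) (x a)

/-- The state handed from one step to the next: the vector and functional of the enclosing step. -/
def Seed (S : End F V) {r : ℕ} (x : Fin (r + 1) → V) (k : Fin (r + 1) → ℕ) (b : V) (c : V →ₗ[F] F) : Prop :=
  (∃ p : F[X], aeval S p (x 0) = b) ∧
    (∀ φ : V →ₗ[F] F, φ (x 0) = 1 → (∀ i, 1 ≤ i → i < k 0 → φ ((S ^ i) (x 0)) = 0) → φ b ≠ 0) ∧
    c (x 0) ≠ 0 ∧ ∀ a : Fin r, c (x a.succ) = 0

namespace Dec

variable {S : End F V} {r : ℕ} {x : Fin r → V} {k : Fin r → ℕ}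

omit [Finite F] in
theorem orbit_le (h : Dec S x k) (a : Fin r) (p : F[X]) :
    aeval S p (x a) ∈ Submodule.span F (Set.range fun i : Fin (k a) => (S ^ (i : ℕ)) (x a)) := by
  obtain ⟨P, hP, hd, hz⟩ := h.kill a
  have e : aeval S p (x a) = aeval S (p %ₘ P) (x a) := by
    conv_lhs => rw [← modByMonic_add_div p P]
    rw [map_add, LinearMap.add_apply, mul_comm, map_mul, Module.End.mul_apply, hz, map_zero, add_zero]
  rw [e]
  by_cases hP1 : P = 1
  · rw [hP1, modByMonic_one, map_zero, LinearMap.zero_apply]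
    exact zero_mem _
  rw [aeval_eq_sum_range, LinearMap.sum_apply]
  refine Submodule.sum_mem _ fun i hi => ?_
  rw [LinearMap.smul_apply]
  refine Submodule.smul_mem _ _ (Submodule.subset_span ⟨⟨i, ?_⟩, rfl⟩)
  have h1 := natDegree_modByMonic_lt p hP hP1
  have h2 := Finset.mem_range.1 hi
  omega

omit [Finite F] in
theorem exists_basis (h : Dec S x k) :
    ∃ B : Basis (Σ a, Fin (k a)) F V, ∀ a i, B ⟨a, i⟩ = (S ^ (i : ℕ)) (x a) := by
  classical
  let b : (Σ a, Fin (k a)) → V := fun p => (S ^ (p.2 : ℕ)) (x p.1)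
  have htop : ⊤ ≤ Submodule.span F (Set.range b) := fun z _ => by
    obtain ⟨p, rfl⟩ := h.span z
    refine Submodule.sum_mem _ fun a _ => ?_
    refine (Submodule.span_mono ?_) (h.orbit_le a (p a))
    rintro _ ⟨i, rfl⟩
    exact ⟨⟨a, i⟩, rfl⟩
  refine ⟨basisOfTopLeSpanOfCardEqFinrank b htop (by simp [h.sum]), fun a i => ?_⟩
  rw [coe_basisOfTopLeSpanOfCardEqFinrank]

omit [Finite F] in
theorem exists_functional (h : Dec S x k) (g : Fin r → ℕ → F) :
    ∃ f : V →ₗ[F] F, ∀ a i, i < k a → f ((S ^ i) (x a)) = g a i := by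
  obtain ⟨B, hB⟩ := h.exists_basis
  refine ⟨B.constr F fun p => g p.1 p.2, fun a i hi => ?_⟩
  rw [← hB a ⟨i, hi⟩, Basis.constr_basis]

omit [Finite F] in
theorem orbit_functional (h : Dec S x k) {a : Fin r} {φ ψ : V →ₗ[F] F}
    (he : ∀ i, i < k a → φ ((S ^ i) (x a)) = ψ ((S ^ i) (x a))) (p : F[X]) :
    φ (aeval S p (x a)) = ψ (aeval S p (x a)) := by
  refine LinearMap.eqOn_span ?_ (h.orbit_le a p)
  rintro _ ⟨i, rfl⟩
  exact he i i.2

end Dec

variable {S : End F V} {r : ℕ} {x : Fin (r + 2) → V} {k : Fin (r + 2) → ℕ}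

/-- The residual decomposition after a step mixing the first two blocks. -/
theorem dec_res (h : Dec S x k) (hk0 : 1 ≤ k 0) (hk1 : 1 ≤ k 1) (f : V →ₗ[F] F) (v : V)
    (hv : v = x 0 + x 1) (hfv : f v = 1) (hfS : f (S v) = 1)
    (hrest : ∀ (a : Fin r) (i : ℕ), i < k a.succ.succ → f ((S ^ i) (x a.succ.succ)) = 0)
    {w : V} (hw : f w = 0) (hws : w ∈ Submodule.span F ({x 0, x 1} : Set V))
    (hgen : ∀ G : Submodule F V, v ∈ G → (∀ i : ℕ, (res S f v ^ i) w ∈ G) → S v ∈ G ∧ x 1 ∈ G) :
    ∃ (y : Fin (r + 1) → LinearMap.ker f) (k' : Fin (r + 1) → ℕ),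
      Dec (resKer S f v hfS) y k' ∧ (y 0 : V) = w ∧ k' 0 + 1 = k 0 + k 1 ∧
      (∀ a : Fin r, (y a.succ : V) = x a.succ.succ ∧ k' a.succ = k a.succ.succ) ∧
      (∀ a : Fin r, S (x a.succ.succ) = res S f v (x a.succ.succ) ∧ f (S (x a.succ.succ)) = 0) ∧
      ∀ z : LinearMap.ker f, (z : V) = S v - v → ∃ p : F[X], aeval (resKer S f v hfS) p (y 0) = z := by
  classical
  obtain ⟨B, hB⟩ := h.exists_basis
  set R := resKer S f v hfS
  have hR : ∀ z : LinearMap.ker f, (R z : V) = res S f v z := fun z => rfl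
  have hrest' : ∀ (a : Fin r) (p : F[X]), f (aeval S p (x a.succ.succ)) = 0 := fun a p => by
    have := h.orbit_functional (φ := f) (ψ := 0) (a := a.succ.succ) (fun i hi => by
      rw [LinearMap.zero_apply, hrest a i hi]) p
    rwa [LinearMap.zero_apply] at this
  have hxm : ∀ a : Fin r, x a.succ.succ ∈ LinearMap.ker f := fun a => by
    simpa using hrest' a 1
  let y : Fin (r + 1) → LinearMap.ker f := Fin.cons ⟨w, hw⟩ fun a => ⟨x a.succ.succ, hxm a⟩
  let k' : Fin (r + 1) → ℕ := Fin.cons (k 0 + k 1 - 1) fun a => k a.succ.succ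
  -- polynomials on the untouched blocks
  have hpoly : ∀ (a : Fin r) (p : F[X]), (aeval R p (y a.succ) : V) = aeval S p (x a.succ.succ) := by
    intro a p
    induction p using Polynomial.induction_on with
    | C c => simp [y]
    | add p q hp hq => simp [hp, hq]
    | monomial n c ih =>
      rw [show C c * X ^ (n + 1) = X * (C c * X ^ n) by ring]
      revert ih
      generalize (C c * X ^ n : F[X]) = q
      intro ih
      rw [map_mul, map_mul, Module.End.mul_apply, Module.End.mul_apply, aeval_X, aeval_X, hR, ih, res_apply,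
        show f (S (aeval S q (x a.succ.succ))) = f (aeval S (X * q) (x a.succ.succ)) by simp,
        hrest', zero_smul, sub_zero]
  -- the two mixed blocks
  let U : Submodule F V := Submodule.span F (Set.range fun i : Fin (k 0) => (S ^ (i : ℕ)) (x 0)) ⊔
    Submodule.span F (Set.range fun i : Fin (k 1) => (S ^ (i : ℕ)) (x 1))
  have hU0 : ∀ p : F[X], aeval S p (x 0) ∈ U := fun p => Submodule.mem_sup_left (h.orbit_le 0 p)
  have hU1 : ∀ p : F[X], aeval S p (x 1) ∈ U := fun p => Submodule.mem_sup_right (h.orbit_le 1 p)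
  have hSU : ∀ z ∈ U, S z ∈ U := by
    have : U ≤ U.comap S := by
      refine sup_le (Submodule.span_le.2 ?_) (Submodule.span_le.2 ?_) <;> rintro _ ⟨i, rfl⟩
      · simpa [pow_succ'] using hU0 (X ^ ((i : ℕ) + 1))
      · simpa [pow_succ'] using hU1 (X ^ ((i : ℕ) + 1))
    exact fun z hz => this hz
  have hvU : v ∈ U := by
    rw [hv]; exact add_mem (by simpa using hU0 1) (by simpa using hU1 1)
  let W₁ : Submodule F (LinearMap.ker f) := U.comap (LinearMap.ker f).subtype
  have hRW : ∀ z ∈ W₁, R z ∈ W₁ := fun z hz => by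
    show (R z : V) ∈ U
    rw [hR, res_apply]
    exact sub_mem (hSU _ hz) (U.smul_mem _ (hSU _ hvU))
  have hwU : (⟨w, hw⟩ : LinearMap.ker f) ∈ W₁ := by
    refine (Submodule.span_le.2 ?_ : Submodule.span F ({x 0, x 1} : Set V) ≤ U) hws
    rintro _ (rfl | rfl)
    · simpa using hU0 1
    · simpa using hU1 1
  have hW₁dim : finrank F W₁ + 1 ≤ k 0 + k 1 := by
    have h1 : finrank F W₁ = finrank F ↥(W₁.map (LinearMap.ker f).subtype) :=
      (Submodule.equivMapOfInjective _ (LinearMap.ker f).injective_subtype W₁).finrank_eq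
    have h2 : W₁.map (LinearMap.ker f).subtype < U := by
      refine lt_of_le_of_ne (Submodule.map_le_iff_le_comap.2 le_rfl) fun e => ?_
      rw [← e] at hvU
      obtain ⟨z, -, hz⟩ := hvU
      have h3 : f v = 0 := by rw [← hz]; exact z.2
      exact one_ne_zero (hfv.symm.trans h3)
    have h3 := Submodule.finrank_lt_finrank_of_lt h2
    have h4 : finrank F U ≤ k 0 + k 1 := by
      refine (Submodule.finrank_add_le_finrank_add_finrank _ _).trans (add_le_add ?_ ?_) <;>
        exact (finrank_range_le_card _).trans_eq (Fintype.card_fin _)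
    omega
  have hpW : ∀ p : F[X], aeval R p (⟨w, hw⟩ : LinearMap.ker f) ∈ W₁ := fun p => by
    induction p using Polynomial.induction_on with
    | C c => simpa using W₁.smul_mem c hwU
    | add p q hp hq => rw [map_add, LinearMap.add_apply]; exact add_mem hp hq
    | monomial n c ih =>
      rw [show C c * X ^ (n + 1) = X * (C c * X ^ n) by ring, map_mul, Module.End.mul_apply, aeval_X]
      exact hRW _ ih
  -- generation
  let Orb : Submodule F (LinearMap.ker f) :=
    LinearMap.range ((LinearMap.applyₗ (⟨w, hw⟩ : LinearMap.ker f)).comp (aeval R).toLinearMap)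
  let Rest : Submodule F V := Submodule.span F
    (Set.range fun p : Fin r × F[X] => aeval S p.2 (x p.1.succ.succ))
  let G : Submodule F V := (Orb.map (LinearMap.ker f).subtype ⊔ Rest) ⊔ F ∙ v
  have hvG : v ∈ G := Submodule.mem_sup_right (Submodule.mem_span_singleton_self v)
  have hwG : ∀ i : ℕ, (res S f v ^ i) w ∈ G := fun i => by
    refine Submodule.mem_sup_left (Submodule.mem_sup_left ⟨(R ^ i) ⟨w, hw⟩, ⟨X ^ i, by simp⟩, ?_⟩)
    induction i with
    | zero => rfl
    | succ i ih => rw [pow_succ', pow_succ', Module.End.mul_apply, Module.End.mul_apply, ← ih]; rfl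
  obtain ⟨hSv, hx1⟩ := hgen G hvG hwG
  have hSG : ∀ z ∈ G, S z ∈ G := by
    have : G ≤ G.comap S := by
      refine sup_le (sup_le ?_ (Submodule.span_le.2 ?_)) ((Submodule.span_singleton_le_iff_mem _ _).2 hSv)
      · rintro _ ⟨z, ⟨p, rfl⟩, rfl⟩
        show S ((aeval R p ⟨w, hw⟩ : LinearMap.ker f) : V) ∈ G
        have e : S ((aeval R p ⟨w, hw⟩ : LinearMap.ker f) : V) =
            ((aeval R (X * p) ⟨w, hw⟩ : LinearMap.ker f) : V) +
              f (S ((aeval R p ⟨w, hw⟩ : LinearMap.ker f) : V)) • S v := by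
          rw [map_mul, Module.End.mul_apply, aeval_X, hR, res_apply]; abel
        rw [e]
        exact add_mem (Submodule.mem_sup_left (Submodule.mem_sup_left ⟨_, ⟨X * p, rfl⟩, rfl⟩)) (G.smul_mem _ hSv)
      · rintro _ ⟨⟨a, p⟩, rfl⟩
        exact Submodule.mem_sup_left (Submodule.mem_sup_right (Submodule.subset_span ⟨(a, X * p), by simp⟩))
    exact fun z hz => this hz
  have htop : ∀ z, z ∈ G := by
    intro z
    obtain ⟨p, rfl⟩ := h.span z
    have hg : ∀ (u : V), u ∈ G → ∀ q : F[X], aeval S q u ∈ G := fun u hu q => by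
      induction q using Polynomial.induction_on with
      | C c => simpa using G.smul_mem c hu
      | add p q hp hq => rw [map_add, LinearMap.add_apply]; exact add_mem hp hq
      | monomial n c ih =>
        rw [show C c * X ^ (n + 1) = X * (C c * X ^ n) by ring, map_mul, Module.End.mul_apply, aeval_X]
        exact hSG _ ih
    refine G.sum_mem fun a _ => ?_
    refine Fin.cases ?_ (Fin.cases ?_ (fun b => ?_)) a
    · refine hg _ ?_ _
      rw [show x 0 = v - x 1 by rw [hv]; abel]
      exact sub_mem hvG hx1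
    · exact hg _ hx1 _
    · exact Submodule.mem_sup_left (Submodule.mem_sup_right (Submodule.subset_span ⟨(b, p _), rfl⟩))
  have hspan : ∀ z : LinearMap.ker f, ∃ p : Fin (r + 1) → F[X], z = ∑ a, aeval R (p a) (y a) := by
    intro z
    obtain ⟨u, hu, _, hc, e⟩ := Submodule.mem_sup.1 (htop (z : V))
    obtain ⟨c, rfl⟩ := Submodule.mem_span_singleton.1 hc
    obtain ⟨_, ⟨z₁, ⟨p₀, rfl⟩, rfl⟩, z₂, hz₂, rfl⟩ := Submodule.mem_sup.1 hu
    obtain ⟨p, hp⟩ : ∃ p : Fin r → F[X], z₂ = ∑ a, aeval S (p a) (x a.succ.succ) := by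
      refine Submodule.span_induction (p := fun z _ => ∃ p : Fin r → F[X], z = ∑ a, aeval S (p a) (x a.succ.succ))
        ?_ ⟨0, by simp⟩ ?_ ?_ hz₂
      · rintro _ ⟨⟨a, q⟩, rfl⟩
        refine ⟨Pi.single a q, ?_⟩
        rw [Finset.sum_eq_single a (fun b _ hb => by simp [hb]) (fun h => absurd (Finset.mem_univ a) h), Pi.single_eq_same]
      · rintro a b _ _ ⟨p, rfl⟩ ⟨q, rfl⟩
        exact ⟨p + q, by simp [Finset.sum_add_distrib]⟩
      · rintro c a _ ⟨p, rfl⟩
        exact ⟨fun i => C c * p i, by simp [Finset.smul_sum]⟩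
    have hc0 : c = 0 := by
      have h1 := congrArg f e
      rw [map_add, map_add, hp, map_sum, Finset.sum_eq_zero (fun a _ => hrest' a _), map_smul, hfv,
        show f ((z : V)) = 0 from z.2, add_zero] at h1
      have h2 : f (((LinearMap.applyₗ (⟨w, hw⟩ : LinearMap.ker f)).comp (aeval R).toLinearMap p₀ :
        LinearMap.ker f) : V) = 0 := LinearMap.mem_ker.1 (Subtype.prop _)
      simpa [h2] using h1
    refine ⟨Fin.cons p₀ p, Subtype.ext ?_⟩
    rw [Fin.sum_univ_succ, Submodule.coe_add, Submodule.coe_sum, ← e, hc0, zero_smul, add_zero, hp]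
    simp only [Fin.cons_zero, Fin.cons_succ, hpoly]
    rfl
  have hk'0 : k' 0 + 1 = k 0 + k 1 := by simp [k']; omega
  have hsum : ∑ a, k' a = finrank F (LinearMap.ker f) := by
    have hsurj : Function.Surjective f := fun c => ⟨c • v, by simp [hfv]⟩
    have h1 := Submodule.finrank_quotient_add_finrank (LinearMap.ker f)
    rw [(f.quotKerEquivOfSurjective hsurj).finrank_eq, Module.finrank_self] at h1
    have h2 := h.sum
    rw [Fin.sum_univ_succ, Fin.sum_univ_succ] at h2
    rw [Fin.sum_univ_succ]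
    simp only [k', Fin.cons_zero, Fin.cons_succ]
    simp only [Fin.succ_zero_eq_one] at h2
    omega
  -- the first block of the residual
  have hW₁eq : finrank F W₁ + 1 = k 0 + k 1 ∧ W₁ ≤ Orb := by
    let Rest' : Submodule F (LinearMap.ker f) := Submodule.span F (Set.range
      fun p : Σ a : Fin r, Fin (k a.succ.succ) => (R ^ (p.2 : ℕ)) (y p.1.succ))
    have hRest : finrank F Rest' ≤ ∑ a : Fin r, k a.succ.succ :=
      (finrank_range_le_card _).trans_eq (by simp)
    have hall : Orb ⊔ Rest' = ⊤ := by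
      rw [eq_top_iff]
      intro z _
      obtain ⟨p, rfl⟩ := hspan z
      refine Submodule.sum_mem _ fun a _ => ?_
      refine Fin.cases ?_ (fun b => ?_) a
      · exact Submodule.mem_sup_left ⟨p 0, rfl⟩
      · refine Submodule.mem_sup_right ?_
        have h1 := h.orbit_le b.succ.succ (p b.succ)
        rw [← hpoly] at h1
        have h2 : Submodule.span F (Set.range fun i : Fin (k b.succ.succ) => (S ^ (i : ℕ)) (x b.succ.succ)) ≤
            Rest'.map (LinearMap.ker f).subtype := by
          refine Submodule.span_le.2 ?_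
          rintro _ ⟨i, rfl⟩
          exact ⟨_, Submodule.subset_span ⟨⟨b, i⟩, rfl⟩, by
            show ((R ^ (i : ℕ)) (y b.succ) : V) = _
            simpa using hpoly b (X ^ (i : ℕ))⟩
        obtain ⟨z, hz, e⟩ := h2 h1
        exact Subtype.ext e ▸ hz
    have hO : Orb ≤ W₁ := by rintro _ ⟨p, rfl⟩; exact hpW p
    have h1 := Submodule.finrank_add_le_finrank_add_finrank Orb Rest'
    rw [hall, finrank_top, ← hsum, Fin.sum_univ_succ] at h1
    simp only [k', Fin.cons_zero, Fin.cons_succ] at h1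
    have h2 := Submodule.finrank_mono hO
    refine ⟨by omega, le_of_eq (Submodule.eq_of_le_of_finrank_eq hO (by omega)).symm⟩
  refine ⟨y, k', ⟨hsum, fun a => ?_, hspan⟩, rfl, hk'0, fun a => ⟨rfl, rfl⟩, fun a => ?_, fun z hz => ?_⟩
  · refine Fin.cases ?_ (fun b => ?_) a
    · let R₁ := R.restrict hRW
      refine ⟨R₁.charpoly, R₁.charpoly_monic, by rw [LinearMap.charpoly_natDegree]; omega, ?_⟩
      have hp : ∀ (p : F[X]) (z : W₁), aeval R p (z : LinearMap.ker f) = (aeval R₁ p z : W₁) := by
        intro p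
        induction p using Polynomial.induction_on with
        | C c => exact fun z => by simp
        | add p q hp hq => exact fun z => by simp [hp, hq]
        | monomial n c ih =>
          intro z
          rw [show C c * X ^ (n + 1) = X * (C c * X ^ n) by ring]
          have := ih z
          revert this
          generalize (C c * X ^ n : F[X]) = q
          intro this
          rw [map_mul, map_mul, Module.End.mul_apply, Module.End.mul_apply, aeval_X, aeval_X, this]
          rfl
      show aeval R R₁.charpoly ((⟨⟨w, hw⟩, hwU⟩ : W₁) : LinearMap.ker f) = 0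
      rw [hp, LinearMap.aeval_self_charpoly]
      rfl
    · obtain ⟨P, hP, hd, hz⟩ := h.kill b.succ.succ
      exact ⟨P, hP, hd, Subtype.ext (by rw [hpoly, hz]; rfl)⟩
  · have h0 : f (S (x a.succ.succ)) = 0 := by simpa using hrest' a X
    exact ⟨by rw [res_apply, h0, zero_smul, sub_zero], h0⟩
  · exact hW₁eq.2 (show (z : V) ∈ U by rw [hz]; exact sub_mem (hSU _ hvU) hvU)

end CfsgLib.SLComm
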