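import Cfsg.Agent.Lib.SLComm.Step

/-!
Factorization of a cyclic map of determinant one in dimension at least three.
-/

set_option autoImplicit false

namespace CfsgLib.SLComm

open Polynomial Module

universe u

variable {F : Type u} [Field F] [Finite F]
variable {V : Type u} [AddCommGroup V] [Module F V] [FiniteDimensional F V]

/-- The sequence adapted to a lower bidiagonal factor. -/
def seq (S : End F V) (w : V) : ℕ → V
  | 0 => w
  | 1 => S w - w
  | n + 2 => S (seq S w (n + 1)) - seq S w (n + 1) - (seq S w n + seq S w (n + 1))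

theorem final {S : End F V} {j : ℕ} (hj : 1 ≤ j) (hdim : finrank F V = j + 2) {w : V}
    (hgen : ∀ z, ∃ p : F[X], aeval S p w = z) (hS : LinearMap.det S = 1) {ν t δ : F} (hν : ν ≠ 0)
    (hirr : ∀ z : F, z ^ 2 + t * z + δ ≠ 0) (hνδ : ν ^ j * δ = 1) :
    ∃ L U : End F V, Fac S L U ((X - C ν) ^ j * (X ^ 2 + C t * X + C δ))
        ((X - C ν⁻¹) ^ j * (X ^ 2 + C (t / δ) * X + C δ⁻¹)) ∧
      U w = ν⁻¹ • w ∧
      ∃ φ : V →ₗ[F] F, (∀ z, φ (L z) = ν * φ z) ∧ φ w = 1 ∧ φ (S w) = 1 ∧ (2 ≤ j → φ (S (S w)) = 2) := by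
  classical
  set x := seq S w
  have hx0 : x 0 = w := rfl
  have hx1 : x 1 = S w - w := rfl
  have hxs : ∀ i, x (i + 2) = S (x (i + 1)) - x (i + 1) - (x i + x (i + 1)) := fun i => rfl
  have hSx : ∀ i, S (x i) = x (i + 1) + x i + if i = 0 then 0 else x (i - 1) + x i := fun i => by
    rcases i with _ | i
    · rw [if_pos rfl, hx1, hx0]; abel
    · rw [if_neg (Nat.succ_ne_zero i), Nat.add_sub_cancel, hxs]; abel
  -- any choice of the top vector gives a basis
  have hbasis : ∀ u : F, ∃ bb : Basis (Fin j ⊕ Fin 2) F V, (∀ i : Fin j, bb (.inl i) = x i) ∧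
      bb (.inr 0) = x j ∧ bb (.inr 1) = S (x j) + δ • x j - u • (x (j - 1) + x j) := by
    intro u
    let b : Fin j ⊕ Fin 2 → V := Sum.elim (fun i => x i) ![x j, S (x j) + δ • x j - u • (x (j - 1) + x j)]
    set G := Submodule.span F (Set.range b)
    have hmem : ∀ i, i ≤ j → x i ∈ G := fun i hi => by
      rcases hi.lt_or_eq with h | rfl
      · exact Submodule.subset_span ⟨.inl ⟨i, h⟩, rfl⟩
      · exact Submodule.subset_span ⟨.inr 0, rfl⟩
    have hSmem : ∀ i, i ≤ j → S (x i) ∈ G := fun i hi => by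
      rcases hi.lt_or_eq with h | rfl
      · rw [hSx]
        refine add_mem (add_mem (hmem _ h) (hmem _ hi)) ?_
        split_ifs
        exacts [zero_mem _, add_mem (hmem _ (by omega)) (hmem _ hi)]
      · have h1 : S (x i) = b (.inr 1) - δ • x i + u • (x (i - 1) + x i) := by simp [b]; abel
        rw [h1]
        exact add_mem (sub_mem (Submodule.subset_span ⟨_, rfl⟩) (G.smul_mem _ (hmem _ le_rfl)))
          (G.smul_mem _ (add_mem (hmem _ (by omega)) (hmem _ le_rfl)))
    let G₀ := Submodule.span F (Set.range fun i : Fin (j + 1) => x i)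
    have hpow : ∀ l, l ≤ j → (S ^ l) w ∈ Submodule.span F (Set.range fun i : Fin (l + 1) => x i) := by
      intro l
      induction l with
      | zero => exact fun _ => Submodule.subset_span ⟨0, hx0⟩
      | succ l ih =>
        intro hl
        rw [pow_succ', Module.End.mul_apply]
        have hm : ∀ i, i ≤ l + 1 → x i ∈ Submodule.span F (Set.range fun i : Fin (l + 2) => x i) := fun i hi =>
          Submodule.subset_span ⟨⟨i, by omega⟩, rfl⟩
        refine (Submodule.span_le.2 ?_ : Submodule.span F (Set.range fun i : Fin (l + 1) => x i) ≤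
          (Submodule.span F (Set.range fun i : Fin (l + 2) => x i)).comap S) (ih (by omega))
        rintro _ ⟨i, rfl⟩
        rw [SetLike.mem_coe, Submodule.mem_comap, hSx]
        refine add_mem (add_mem (hm _ (by omega)) (hm _ (by omega))) ?_
        split_ifs
        exacts [zero_mem _, add_mem (hm _ (by omega)) (hm _ (by omega))]
    have hall : ∀ l, l ≤ j + 1 → (S ^ l) w ∈ G := by
      intro l hl
      rcases hl.lt_or_eq with h | rfl
      · exact (Submodule.span_le.2 (by rintro _ ⟨i, rfl⟩; exact hmem _ (by omega))) (hpow l (by omega))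
      · rw [pow_succ', Module.End.mul_apply]
        exact (Submodule.span_le.2 (by rintro _ ⟨i, rfl⟩; exact hSmem _ (by omega)) :
          Submodule.span F (Set.range fun i : Fin (j + 1) => x i) ≤ G.comap S) (hpow j le_rfl)
    have htop : ⊤ ≤ G := fun z _ => by
      obtain ⟨p, rfl⟩ := hgen z
      have hm := S.charpoly_monic
      have e : aeval S p = aeval S (p %ₘ S.charpoly) := by
        conv_lhs => rw [← modByMonic_add_div p S.charpoly]
        rw [map_add, map_mul, LinearMap.aeval_self_charpoly, zero_mul, add_zero]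
      rw [e, aeval_eq_sum_range, LinearMap.sum_apply]
      refine G.sum_mem fun l hl => ?_
      rw [LinearMap.smul_apply]
      refine G.smul_mem _ (hall l ?_)
      have h1 := natDegree_modByMonic_lt p hm (fun e => by
        have := S.charpoly_natDegree
        rw [e, natDegree_one, hdim] at this
        omega)
      rw [S.charpoly_natDegree, hdim] at h1
      have := Finset.mem_range.1 hl
      omega
    refine ⟨basisOfTopLeSpanOfCardEqFinrank b htop (by simp [hdim]), fun i => ?_, ?_, ?_⟩ <;>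
      rw [coe_basisOfTopLeSpanOfCardEqFinrank] <;> rfl
  -- the entries of the last block
  obtain ⟨B₀, hB₀⟩ : ∃ B₀ : F, B₀ = 1 + t := ⟨_, rfl⟩
  obtain ⟨B₁, hB₁⟩ : ∃ B₁ : F, B₁ = -t / δ - B₀ := ⟨_, rfl⟩
  obtain ⟨B₂, hB₂⟩ : ∃ B₂ : F, B₂ = B₀ * B₁ - δ⁻¹ := ⟨_, rfl⟩
  have hδ : δ ≠ 0 := fun e => by rw [e, mul_zero] at hνδ; exact zero_ne_one hνδ
  let rr : V → V := fun T => S T - (B₂ - t * B₁) • T + (δ * B₁) • x j
  obtain ⟨bb₀, h0l, h0j, h0t⟩ := hbasis 0
  set T₀ := bb₀.coord (.inr 1) with hT₀
  have hlow : ∀ i, i ≤ j → T₀ (x i) = 0 := fun i hi => by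
    rcases hi.lt_or_eq with h | rfl
    · rw [hT₀, ← h0l ⟨i, h⟩, Basis.coord_apply, Basis.repr_self, Finsupp.single_eq_of_ne (by simp)]
    · rw [hT₀, ← h0j, Basis.coord_apply, Basis.repr_self, Finsupp.single_eq_of_ne (by simp)]
  set u := T₀ (rr (S (x j) + δ • x j)) with hu
  obtain ⟨bb, hl, hjb, htb⟩ := hbasis u
  set xt := S (x j) + δ • x j - u • (x (j - 1) + x j) with hxt
  -- the last coordinate of the remainder vanishes
  have hr : T₀ (rr xt) = 0 := by
    have hTy : T₀ (S (x (j - 1) + x j)) = 1 := by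
      have h1 : S (x j) + δ • x j = bb₀ (.inr 1) := by rw [h0t, zero_smul, sub_zero]
      have h2 : T₀ (S (x j)) = 1 := by
        rw [show S (x j) = bb₀ (.inr 1) - δ • x j by rw [← h1]; abel, map_sub, map_smul, hlow j le_rfl, smul_zero,
          sub_zero, hT₀, Basis.coord_apply, Basis.repr_self, Finsupp.single_eq_same]
      have h3 : T₀ (S (x (j - 1))) = 0 := by
        rw [hSx, map_add, map_add, hlow _ (by omega), hlow _ (by omega), zero_add, zero_add]
        split_ifs
        · exact map_zero _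
        · rw [map_add, hlow _ (by omega), hlow _ (by omega), add_zero]
      rw [map_add, map_add, h2, h3, zero_add]
    have h1 : rr xt = rr (S (x j) + δ • x j) - u • S (x (j - 1) + x j) +
        (u * (B₂ - t * B₁)) • (x (j - 1) + x j) := by
      simp only [rr, hxt, map_sub, map_smul]
      module
    rw [h1, map_add, map_sub, map_smul, map_smul, hTy, ← hu, map_add, hlow _ (by omega), hlow _ le_rfl]
    simp
  let Y := Submodule.span F (Set.range fun i : Fin j => x i + x (i + 1))
  obtain ⟨ρ, hρ⟩ : ∃ ρ : F, rr xt - ρ • x j ∈ Y := by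
    have hY : ∀ l i, i + l = j → ∃ ρ : F, x i - ρ • x j ∈ Y := by
      intro l
      induction l with
      | zero =>
        intro i hi
        rw [Nat.add_zero] at hi
        exact ⟨1, by rw [hi, one_smul, sub_self]; exact Y.zero_mem⟩
      | succ l ih =>
        intro i hi
        obtain ⟨ρ, h⟩ := ih (i + 1) (by omega)
        refine ⟨-ρ, ?_⟩
        have : x i - (-ρ) • x j = (x i + x (i + 1)) - (x (i + 1) - ρ • x j) := by module
        rw [this]
        exact Y.sub_mem (Submodule.subset_span ⟨⟨i, by omega⟩, rfl⟩) h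
    have hlin : rr xt ∈ Submodule.span F (Set.range fun i : Fin (j + 1) => x i) := by
      have h1 := bb₀.sum_repr (rr xt)
      rw [← h1, Fintype.sum_sum_type, Fin.sum_univ_two]
      refine add_mem (Submodule.sum_mem _ fun i _ => Submodule.smul_mem _ _ ?_) (add_mem (Submodule.smul_mem _ _ ?_) ?_)
      · rw [h0l]; exact Submodule.subset_span ⟨i.castSucc, rfl⟩
      · rw [h0j]; exact Submodule.subset_span ⟨Fin.last j, rfl⟩
      · rw [show bb₀.repr (rr xt) (.inr 1) = 0 from hr, zero_smul]; exact zero_mem _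
    refine Submodule.span_induction (p := fun z _ => ∃ ρ : F, z - ρ • x j ∈ Y) ?_ ⟨0, by simp⟩ ?_ ?_ hlin
    · rintro _ ⟨i, rfl⟩; exact hY (j - i) i (by omega)
    · rintro a b _ _ ⟨ρ, ha⟩ ⟨σ, hb⟩
      exact ⟨ρ + σ, by rw [show a + b - (ρ + σ) • x j = (a - ρ • x j) + (b - σ • x j) by module]; exact add_mem ha hb⟩
    · rintro c a _ ⟨ρ, ha⟩
      exact ⟨c * ρ, by rw [show c • a - (c * ρ) • x j = c • (a - ρ • x j) by module]; exact Y.smul_mem _ ha⟩
  -- the lower factor
  let L : End F V := bb.constr F (Sum.elim (fun i => ν • (x i + x (i + 1))) ![xt, -δ • x j - t • xt])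
  have hL0 : ∀ i : ℕ, i < j → L (x i) = ν • (x i + x (i + 1)) := fun i hi => by
    have h1 : L (bb (.inl ⟨i, hi⟩)) = _ := bb.constr_basis F _ _
    rwa [hl] at h1
  have hLj : L (x j) = xt := by
    have h1 : L (bb (.inr 0)) = _ := bb.constr_basis F _ _
    rwa [hjb] at h1
  have hLt : L xt = -δ • x j - t • xt := by
    conv_lhs => rw [← htb]
    simp [L]
  let X₀ := Submodule.span F (Set.range fun i : Fin j => x i)
  obtain ⟨z, hz, hLz⟩ : ∃ z ∈ X₀, L z = rr xt - ρ • x j := by
    refine Submodule.mem_map.1 ((Submodule.span_le.2 ?_ : Y ≤ X₀.map L) hρ)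
    rintro _ ⟨i, rfl⟩
    refine ⟨ν⁻¹ • x i, X₀.smul_mem _ (Submodule.subset_span ⟨i, rfl⟩), ?_⟩
    rw [map_smul, hL0 i i.2, inv_smul_smul₀ hν]
  -- the upper factor, with the parameter of the determinant
  let Uf : F → End F V := fun r => bb.constr F (Sum.elim (fun i => ν⁻¹ • (x i + if (i : ℕ) = 0 then 0 else x (i - 1)))
    ![(ν⁻¹ * u) • x (j - 1) + B₀ • x j + xt, z + (B₂ - t * r / δ) • x j + (B₁ - r / δ) • xt])
  have hU0 : ∀ r, ∀ i : ℕ, i < j → Uf r (x i) = ν⁻¹ • (x i + if i = 0 then 0 else x (i - 1)) := fun r i hi => by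
    have h1 : Uf r (bb (.inl ⟨i, hi⟩)) = _ := bb.constr_basis F _ _
    rwa [hl] at h1
  have hUj : ∀ r, Uf r (x j) = (ν⁻¹ * u) • x (j - 1) + B₀ • x j + xt := fun r => by
    have h1 : Uf r (bb (.inr 0)) = _ := bb.constr_basis F _ _
    rwa [hjb] at h1
  have hUt : ∀ r, Uf r xt = z + (B₂ - t * r / δ) • x j + (B₁ - r / δ) • xt := fun r => by
    conv_lhs => rw [← htb]
    simp [Uf]
  have hLU : S = L * Uf ρ := by
    refine bb.ext fun i => ?_
    rw [Module.End.mul_apply]
    rcases i with i | i
    · rw [hl, hU0 _ _ i.2, map_smul, map_add, hL0 _ i.2, hSx]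
      split_ifs with h
      · rw [map_zero, add_zero, add_zero, inv_smul_smul₀ hν]; abel
      · rw [hL0 _ (by omega), ← smul_add, inv_smul_smul₀ hν, show (i : ℕ) - 1 + 1 = i by omega]; abel
    · fin_cases i
      · simp only [Fin.zero_eta]
        rw [hjb, hUj, map_add, map_add, map_smul, map_smul, hL0 _ (by omega), hLj, hLt, smul_smul,
          show ν⁻¹ * u * ν = u by field_simp, show j - 1 + 1 = j by omega, hB₀]
        simp only [hxt]
        module
      · simp only [Fin.mk_one]
        rw [htb, hUt, map_add, map_add, map_smul, map_smul, hLz, hLj, hLt]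
        simp only [rr]
        match_scalars <;> field_simp <;> ring
  -- the polynomials
  set h : F[X] := X ^ 2 + C t * X + C δ with hh
  set h' : F[X] := X ^ 2 + C (t / δ) * X + C δ⁻¹ with hh'
  have hhm : h.Monic := by rw [hh]; monicity!
  have hhm' : h'.Monic := by rw [hh']; monicity!
  have hhd : h.natDegree = 2 := by rw [hh]; compute_degree!
  have hhd' : h'.natDegree = 2 := by rw [hh']; compute_degree!
  have hirrh : Irreducible h := by
    rw [irreducible_iff_roots_eq_zero_of_degree_le_three (by rw [hhd]) (by rw [hhd]; omega)]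
    refine Multiset.eq_zero_of_forall_notMem fun y hy => hirr y ?_
    simpa [hh] using (isRoot_of_mem_roots hy)
  have hirr' : ∀ y : F, y ^ 2 + t / δ * y + δ⁻¹ ≠ 0 := fun y hy => by
    have hy0 : y ≠ 0 := fun e => by rw [e] at hy; simp [hδ] at hy
    refine hirr y⁻¹ ?_
    field_simp at hy ⊢
    linear_combination hy
  have hcop : ∀ (μ : F) (g : F[X]), (∀ y : F, g.eval y ≠ 0) → IsCoprime ((X - C μ) ^ j) g := fun μ g hg => by
    refine IsCoprime.pow_left ?_
    rw [(irreducible_X_sub_C μ).coprime_iff_not_dvd, dvd_iff_isRoot]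
    exact hg μ
  have hXd : ∀ μ : F, ((X - C μ) ^ j).natDegree = j := fun μ => by simp
  have hcycL : Cyc L ((X - C ν) ^ j * h) := by
    let W₀ := Submodule.span F ({x j, xt} : Set V)
    rw [mul_comm]
    refine cyc_coprime (W₀ := W₀) (w₀ := x j) (x := x 0) hhm ((monic_X_sub_C ν).pow j)
      (hcop ν h (fun y => by simpa [hh] using hirr y)).symm (by rw [hhd, hXd, hdim, add_comm])
      (Submodule.subset_span (by simp)) (fun y hy => ?_) ?_ ?_ (fun y => ?_)
    · obtain ⟨a, b, rfl⟩ := Submodule.mem_span_pair.1 hy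
      exact ⟨C a + C b * X, by simp [hLj]⟩
    · simp [hh, pow_two, hLj, hLt]
    · have hp : ∀ i, i ≤ j → aeval L ((X - C ν) ^ i) (x 0) = ν ^ i • x i := fun i => by
        induction i with
        | zero => simp
        | succ i ih =>
          intro hi
          rw [pow_succ', map_mul, Module.End.mul_apply, ih (by omega), map_smul, map_sub, aeval_X, aeval_C,
            LinearMap.sub_apply, Module.algebraMap_end_apply, hL0 i (by omega), pow_succ]
          module
      rw [hp j le_rfl]
      exact W₀.smul_mem _ (Submodule.subset_span (by simp))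
    · have hp : ∀ i, i ≤ j → ∃ p : F[X], aeval L p (x 0) = x i := fun i => by
        induction i with
        | zero => exact fun _ => ⟨1, by simp⟩
        | succ i ih =>
          intro hi
          obtain ⟨p, hp⟩ := ih (by omega)
          refine ⟨C ν⁻¹ * X * p - p, ?_⟩
          rw [map_sub, LinearMap.sub_apply, map_mul, Module.End.mul_apply, hp, map_mul, Module.End.mul_apply, aeval_X,
            aeval_C, Module.algebraMap_end_apply, hL0 i (by omega), inv_smul_smul₀ hν]
          abel
      choose p hp using fun i : Fin j => hp i (by omega)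
      refine ⟨∑ i, C (bb.repr y (.inl i)) * p i, bb.repr y (.inr 0) • x j + bb.repr y (.inr 1) • xt,
        Submodule.mem_span_pair.2 ⟨_, _, rfl⟩, ?_⟩
      conv_lhs => rw [← bb.sum_repr y]
      simp only [Fintype.sum_sum_type, Fin.sum_univ_two, map_sum, LinearMap.sum_apply, map_mul, Module.End.mul_apply,
        aeval_C, Module.algebraMap_end_apply, hp, hl, hjb, htb]
  have hcoeff : ((X - C ν) ^ j * h).coeff 0 = (-ν) ^ j * δ := by
    rw [coeff_zero_eq_eval_zero]; simp [hh]
  have hdetL : LinearMap.det L = 1 := by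
    rw [hcycL.det, hcoeff, hdim, pow_add, ← mul_assoc]
    rw [show (-ν) ^ j = (-1) ^ j * ν ^ j by rw [← mul_pow]; ring_nf]
    have h4 : ((-1 : F) ^ j) * (-1) ^ j = 1 := by rw [← mul_pow]; simp
    linear_combination hνδ + (ν ^ j * δ) * h4
  -- the determinant removes the parameter
  have hρ0 : ρ = 0 := by
    have hdU : ∀ r, LinearMap.det (Uf r) = ν⁻¹ ^ j * (B₀ * (B₁ - r / δ) - (B₂ - t * r / δ)) := fun r => by
      rw [← LinearMap.det_toMatrix bb]
      have hrepr : ∀ i : ℕ, ∀ hi : i < j, bb.repr (x i) = Finsupp.single (.inl ⟨i, hi⟩) 1 := fun i hi => by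
        rw [← hl ⟨i, hi⟩, Basis.repr_self]
      have hrj : bb.repr (x j) = Finsupp.single (.inr 0) 1 := by rw [← hjb, Basis.repr_self]
      have hrt : bb.repr xt = Finsupp.single (.inr 1) 1 := by rw [← htb, Basis.repr_self]
      have hrz : ∀ k : Fin 2, bb.repr z (.inr k) = 0 := fun k => by
        refine Submodule.span_induction (p := fun z _ => bb.repr z (.inr k) = 0) ?_ (by simp)
          (fun _ _ _ _ h1 h2 => by simp [h1, h2]) (fun c _ _ h1 => by simp [h1]) hz
        rintro _ ⟨i, rfl⟩
        simp [hrepr i i.2]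
      have hM : LinearMap.toMatrix bb bb (Uf r) = Matrix.fromBlocks
          (Matrix.of fun i l : Fin j => LinearMap.toMatrix bb bb (Uf r) (.inl i) (.inl l))
          (Matrix.of fun (i : Fin j) (l : Fin 2) => LinearMap.toMatrix bb bb (Uf r) (.inl i) (.inr l)) 0
          !![B₀, B₂ - t * r / δ; 1, B₁ - r / δ] := by
        ext (i | i) (l | l)
        · rfl
        · rfl
        · rw [LinearMap.toMatrix_apply, hl, hU0 _ _ l.2, map_smul, map_add]
          split_ifs with h
          · simp [hrepr l l.2]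
          · simp [hrepr l l.2, hrepr (l - 1) (by omega)]
        · rw [LinearMap.toMatrix_apply]
          fin_cases l
          · simp only [Fin.zero_eta]
            rw [hjb, hUj, map_add, map_add, map_smul, map_smul, hrj, hrt, hrepr (j - 1) (by omega)]
            fin_cases i <;> simp
          · simp only [Fin.mk_one]
            rw [htb, hUt, map_add, map_add, map_smul, map_smul, hrj, hrt]
            fin_cases i <;> simp [hrz]
      rw [hM, Matrix.det_fromBlocks_zero₂₁, Matrix.det_fin_two_of, Matrix.det_of_isUpperTriangular]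
      · congr 1
        · have hd : ∀ i : Fin j, LinearMap.toMatrix bb bb (Uf r) (.inl i) (.inl i) = ν⁻¹ := fun i => by
            rw [LinearMap.toMatrix_apply, hl, hU0 _ _ i.2, map_smul, map_add]
            split_ifs with h
            · simp [hrepr i i.2]
            · simp [hrepr i i.2, hrepr (i - 1) (by omega), Fin.ext_iff, show (i : ℕ) - 1 ≠ i by omega]
          simp [Matrix.of_apply, hd]
        · ring
      · intro i l (hil : l < i)
        rw [Matrix.of_apply, LinearMap.toMatrix_apply, hl, hU0 _ _ l.2, map_smul, map_add]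
        have hlt : (l : ℕ) < i := hil
        split_ifs with h
        · simp [hrepr l l.2, Fin.ext_iff, show (i : ℕ) ≠ l by omega]
        · simp [hrepr l l.2, hrepr (l - 1) (by omega), Fin.ext_iff, show (i : ℕ) ≠ l by omega,
            show (i : ℕ) ≠ l - 1 by omega]
    have h1 := congrArg LinearMap.det hLU
    rw [hS, map_mul, hdetL, one_mul, hdU] at h1
    have h2 : B₀ * (B₁ - ρ / δ) - (B₂ - t * ρ / δ) = (1 - ρ) * δ⁻¹ := by rw [hB₂, hB₀]; field_simp; ring
    rw [h2, show δ⁻¹ = ν ^ j from inv_eq_of_mul_eq_one_left hνδ, inv_pow] at h1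
    field_simp at h1
    linear_combination h1
  rw [hρ0] at hLU
  set U := Uf 0
  have hUj' : U (x j) = (ν⁻¹ * u) • x (j - 1) + B₀ • x j + xt := hUj 0
  have hUt' : U xt = z + B₂ • x j + B₁ • xt := by rw [hUt 0]; simp
  have hcycU : Cyc U ((X - C ν⁻¹) ^ j * h') := by
    have hXinv : ∀ i : ℕ, i < j → ∀ y ∈ Submodule.span F (Set.range fun l : Fin (i + 1) => x l),
        ∃ p : F[X], aeval U p (x (j - 1)) = y → True := fun _ _ _ _ => ⟨0, fun _ => trivial⟩
    have hlow : ∀ i, i < j → aeval U ((X - C ν⁻¹) ^ i) (x (j - 1)) = (ν⁻¹) ^ i • x (j - 1 - i) := fun i => by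
      induction i with
      | zero => simp
      | succ i ih =>
        intro hi
        rw [pow_succ', map_mul, Module.End.mul_apply, ih (by omega), map_smul, map_sub, aeval_X, aeval_C,
          LinearMap.sub_apply, Module.algebraMap_end_apply, hU0 0 _ (by omega), if_neg (by omega), pow_succ,
          show j - 1 - i - 1 = j - 1 - (i + 1) by omega]
        module
    have hkill : aeval U ((X - C ν⁻¹) ^ j) (x (j - 1)) = 0 := by
      conv_lhs => rw [show j = j - 1 + 1 by omega, pow_succ', map_mul, Module.End.mul_apply]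
      rw [show j - 1 + 1 - 1 = j - 1 by omega, hlow _ (by omega), map_smul, Nat.sub_self, map_sub, aeval_X, aeval_C,
        LinearMap.sub_apply, Module.algebraMap_end_apply, hU0 0 0 (by omega), if_pos rfl, add_zero, sub_self, smul_zero]
    have hX₀ : ∀ y ∈ X₀, ∃ p : F[X], aeval U p (x (j - 1)) = y := fun y hy => by
      refine Submodule.span_induction (p := fun y _ => ∃ p : F[X], aeval U p (x (j - 1)) = y) ?_ ⟨0, by simp⟩
        (fun a b _ _ ⟨p, hp⟩ ⟨q, hq⟩ => ⟨p + q, by simp [hp, hq]⟩)
        (fun c a _ ⟨p, hp⟩ => ⟨C c * p, by simp [hp]⟩) hy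
      rintro _ ⟨i, rfl⟩
      refine ⟨C ((ν⁻¹) ^ (j - 1 - i))⁻¹ * (X - C ν⁻¹) ^ (j - 1 - i), ?_⟩
      rw [map_mul, Module.End.mul_apply, hlow _ (by omega), aeval_C, Module.algebraMap_end_apply,
        inv_smul_smul₀ (pow_ne_zero _ (inv_ne_zero hν)), show j - 1 - (j - 1 - (i : ℕ)) = i by omega]
    refine cyc_coprime (W₀ := X₀) (w₀ := x (j - 1)) (x := x j) ((monic_X_sub_C _).pow j) hhm'
      (hcop _ h' (fun y => by simpa [hh'] using hirr' y)) (by rw [hhd', hXd, hdim])
      (Submodule.subset_span ⟨⟨j - 1, by omega⟩, rfl⟩) hX₀ hkill ?_ (fun y => ?_)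
    · have hxi : ∀ i : ℕ, i < j → x i ∈ X₀ := fun i hi => Submodule.subset_span ⟨⟨i, hi⟩, rfl⟩
      have hUx : U (x (j - 1)) ∈ X₀ := by
        rw [hU0 0 _ (by omega)]
        refine X₀.smul_mem _ (add_mem (hxi _ (by omega)) ?_)
        split_ifs
        exacts [X₀.zero_mem, hxi _ (by omega)]
      have e : aeval U h' (x j) = (ν⁻¹ * u) • U (x (j - 1)) + (B₀ + t / δ) • (ν⁻¹ * u) • x (j - 1) + z := by
        simp only [hh', map_add, map_mul, map_pow, aeval_X, aeval_C, LinearMap.add_apply, pow_two,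
          Module.End.mul_apply, Module.algebraMap_end_apply, hUj', map_smul, hUt', hB₂, hB₁]
        match_scalars <;> field_simp <;> ring
      rw [e]
      exact add_mem (add_mem (X₀.smul_mem _ hUx) (X₀.smul_mem _ (X₀.smul_mem _ (hxi _ (by omega))))) hz
    · refine ⟨C (bb.repr y (.inr 0)) + C (bb.repr y (.inr 1)) * (X - C B₀),
        ∑ i, bb.repr y (.inl i) • x i - (bb.repr y (.inr 1) * (ν⁻¹ * u)) • x (j - 1),
        sub_mem (Submodule.sum_mem _ fun i _ => X₀.smul_mem _ (Submodule.subset_span ⟨i, rfl⟩))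
          (X₀.smul_mem _ (Submodule.subset_span ⟨⟨j - 1, by omega⟩, rfl⟩)), ?_⟩
      conv_lhs => rw [← bb.sum_repr y]
      simp only [Fintype.sum_sum_type, Fin.sum_univ_two, map_add, LinearMap.add_apply, map_mul, map_sub,
        Module.End.mul_apply, aeval_C, aeval_X, Module.algebraMap_end_apply, LinearMap.sub_apply, hUj', hl, hjb, htb,
        map_smul]
      module
  refine ⟨L, U, ⟨hLU, ⟨(X - C ν) ^ j, h, hirrh, by simpa [hh] using hirr 1, rfl,
      hcop ν h (fun y => by simpa [hh] using hirr y)⟩,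
    ⟨?_, ?_, ?_⟩, hcycL, hcycU, hdetL⟩, ?_, bb.coord (.inl ⟨0, by omega⟩), fun y => ?_, ?_, ?_, ?_⟩
  · rw [natDegree_mul ((monic_X_sub_C _).pow j).ne_zero hhm'.ne_zero,
      natDegree_mul ((monic_X_sub_C _).pow j).ne_zero hhm.ne_zero, hhd, hhd', hXd, hXd]
  · simp only [eval_mul, eval_pow, eval_sub, eval_X, eval_C, mul_eq_zero, pow_eq_zero_iff (show j ≠ 0 by omega),
      sub_eq_zero]
    have e1 : h.eval 1 ≠ 0 := by simpa [hh] using hirr 1
    have e2 : h'.eval 1 ≠ 0 := by simpa [hh'] using hirr' 1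
    simp only [e1, e2, or_false]
    exact ⟨fun e => by rw [← e, inv_one], fun e => (inv_eq_one.1 e.symm).symm⟩
  · refine ⟨(-ν) ^ j * δ, fun A _ _ g g' hgg hg'g => ?_⟩
    have hc : Commute g g' := hgg.trans hg'g.symm
    have e1 : aeval g' (X - C ν) = -ν • (g' * aeval g (X - C ν⁻¹)) := by
      simp only [map_sub, aeval_X, aeval_C, mul_sub, hg'g, Algebra.algebraMap_eq_smul_one, mul_smul_comm, mul_one,
        smul_sub, smul_smul, neg_mul, mul_inv_cancel₀ hν]
      module
    have e2 : aeval g' h = δ • (g' ^ 2 * aeval g h') := by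
      have a1 : g' ^ 2 * g ^ 2 = 1 := by rw [← hc.symm.mul_pow, hg'g, one_pow]
      have a2 : g' ^ 2 * g = g' := by rw [pow_two, mul_assoc, hg'g, mul_one]
      simp only [hh, hh', map_add, map_mul, map_pow, aeval_X, aeval_C, Algebra.algebraMap_eq_smul_one, mul_add,
        smul_mul_assoc, mul_smul_comm, one_mul, mul_one, a1, a2, smul_add, smul_smul,
        mul_div_cancel₀ t hδ, mul_inv_cancel₀ hδ, one_smul]
      abel
    have hcomm : Commute g' (aeval g (X - C ν⁻¹)) := by
      simp only [map_sub, aeval_X, aeval_C]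
      exact hc.symm.sub_right (Algebra.commute_algebraMap_right _ _)
    rw [map_mul, map_pow, e1, e2, _root_.smul_pow, hcomm.mul_pow, natDegree_mul ((monic_X_sub_C _).pow j).ne_zero hhm.ne_zero,
      hhd, hXd, map_mul, map_pow, smul_mul_smul_comm, pow_add]
    congr 1
    have hcq : Commute (aeval g (X - C ν⁻¹) ^ j) (g' ^ 2) := (hcomm.symm.pow_pow j 2)
    rw [mul_assoc, ← mul_assoc (aeval g (X - C ν⁻¹) ^ j), hcq.eq]
    simp only [mul_assoc]
  · rw [← hx0, hU0 0 0 (by omega), if_pos rfl, add_zero]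
  · have hext : (bb.coord (.inl ⟨0, by omega⟩)).comp L = ν • bb.coord (.inl ⟨0, by omega⟩) := bb.ext fun i => by
      rw [LinearMap.comp_apply, LinearMap.smul_apply]
      rcases i with i | i
      · rw [hl, hL0 _ i.2, map_smul, map_add, ← hl i]
        have hnx : bb.coord (.inl ⟨0, by omega⟩) (x (i + 1)) = 0 := by
          by_cases h : (i : ℕ) + 1 < j
          · rw [show x ((i : ℕ) + 1) = bb (.inl ⟨i + 1, h⟩) from (hl ⟨i + 1, h⟩).symm]
            simp [Fin.ext_iff]
          · rw [show (i : ℕ) + 1 = j by omega, ← hjb]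
            simp
        rw [hnx, add_zero]
      · fin_cases i
        · simp only [Fin.zero_eta]
          rw [hjb, hLj]
          conv_rhs => rw [← hjb]
          rw [← htb]
          simp
        · simp only [Fin.mk_one]
          rw [htb, hLt]
          conv_rhs => rw [← htb]
          rw [← hjb, ← htb]
          simp
    exact LinearMap.congr_fun hext y
  · rw [← hx0, ← hl ⟨0, by omega⟩]; simp
  · have h1 : S w = x 1 + x 0 := by rw [hx1, hx0]; abel
    have h0 : bb.coord (.inl ⟨0, by omega⟩) (x 0) = 1 := by rw [← hl ⟨0, by omega⟩]; simp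
    have h2 : bb.coord (.inl ⟨0, by omega⟩) (x 1) = 0 := by
      by_cases h : 1 < j
      · rw [← hl ⟨1, h⟩]; simp [Fin.ext_iff]
      · rw [show (1 : ℕ) = j by omega, ← hjb]; simp
    rw [h1, map_add, h0, h2, zero_add]
  · intro hj2
    have h1 : S (S w) = x 2 + (3 : F) • x 1 + (2 : F) • x 0 := by
      rw [show S w = x 1 + x 0 by rw [hx1, hx0]; abel, map_add, hSx 1, hSx 0, if_pos rfl, if_neg one_ne_zero]
      module
    have hc : ∀ i : ℕ, 1 ≤ i → i ≤ j → bb.coord (.inl ⟨0, by omega⟩) (x i) = 0 := fun i h1 h2 => by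
      rcases h2.lt_or_eq with h | rfl
      · have hne : i ≠ 0 := by omega
        rw [← hl ⟨i, h⟩]; simp [Fin.ext_iff, hne]
      · rw [← hjb]; simp
    rw [h1, map_add, map_add, map_smul, map_smul, hc 2 (by omega) hj2, hc 1 le_rfl (by omega),
      show bb.coord (.inl ⟨0, by omega⟩) (x 0) = 1 by rw [← hl ⟨0, by omega⟩]; simp]
    simp

end CfsgLib.SLComm
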