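import Cfsg.Agent.Lib.SLComm.Step

/-!
Factorization of a cyclic map of determinant one in dimension two by split factors.
-/

set_option autoImplicit false

namespace CfsgLib.SLComm

open Polynomial Module

universe u

variable {F : Type u} [Field F] [Finite F]
variable {V : Type u} [AddCommGroup V] [Module F V] [FiniteDimensional F V]

theorem exists_split_root (hF : 4 ≤ Nat.card F) : ∃ a : F, a ≠ 0 ∧ a * a ≠ 1 := by
  classical
  haveI := Fintype.ofFinite F
  by_contra hc
  push_neg at hc
  have hs : (Finset.univ : Finset F) ⊆ {0, 1, -1} := fun a _ => by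
    by_cases h0 : a = 0
    · simp [h0]
    rcases mul_self_eq_one_iff.1 (hc a h0) with h | h <;> simp [h]
  have h1 := (Finset.card_le_card hs).trans Finset.card_le_three
  rw [Finset.card_univ, ← Nat.card_eq_fintype_card] at h1
  omega

theorem final_two {S : End F V} (hdim : finrank F V = 2) {w : V}
    (hgen : ∀ z, ∃ p : F[X], aeval S p w = z) (hS : LinearMap.det S = 1) (hF : 4 ≤ Nat.card F) :
    ∃ (L U : End F V) (P : F[X]), Fac S L U P P ∧ P.eval 1 ≠ 0 := by
  classical
  obtain ⟨a, ha, ha1⟩ := exists_split_root hF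
  -- the characteristic polynomial and the basis
  set Q := S.charpoly with hQ
  have hQm : Q.Monic := S.charpoly_monic
  have hQd : Q.natDegree = 2 := S.charpoly_natDegree.trans hdim
  have hQ0 : Q.coeff 0 = 1 := by
    have h1 := LinearMap.det_eq_sign_charpoly_coeff S
    rwa [hS, hdim, ← hQ, neg_one_sq, one_mul, eq_comm] at h1
  obtain ⟨s, hs⟩ : ∃ s : F, s = -Q.coeff 1 := ⟨_, rfl⟩
  have hSS : S (S w) = s • S w - w := by
    have hl : Q.coeff 2 = 1 := by rw [← hQd]; exact hQm.coeff_natDegree
    have h1 : aeval S Q w = 0 := by rw [hQ, LinearMap.aeval_self_charpoly, LinearMap.zero_apply]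
    rw [aeval_eq_sum_range' (n := 3) (by omega), Finset.sum_range_succ, Finset.sum_range_succ,
      Finset.sum_range_one, hQ0, hl, LinearMap.add_apply, LinearMap.add_apply, LinearMap.smul_apply,
      LinearMap.smul_apply, LinearMap.smul_apply, pow_zero, pow_one, Module.End.one_apply, pow_two,
      Module.End.mul_apply, one_smul, one_smul] at h1
    rw [hs]
    linear_combination (norm := module) h1
  let b : Fin 2 → V := ![w, S w]
  have htop : ⊤ ≤ Submodule.span F (Set.range b) := fun z _ => by
    obtain ⟨p, rfl⟩ := hgen z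
    induction p using Polynomial.induction_on with
    | C c => simpa using Submodule.smul_mem _ c (Submodule.subset_span (s := Set.range b) (show w ∈ Set.range b from ⟨(0 : Fin 2), rfl⟩))
    | add p q hp hq => rw [map_add, LinearMap.add_apply]; exact add_mem (hp trivial) (hq trivial)
    | monomial n c ih =>
      rw [show C c * X ^ (n + 1) = X * (C c * X ^ n) by ring, map_mul, Module.End.mul_apply, aeval_X]
      refine (Submodule.span_le.2 ?_ : Submodule.span F (Set.range b) ≤ (Submodule.span F (Set.range b)).comap S)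
        (ih trivial)
      rintro _ ⟨i, rfl⟩
      rw [SetLike.mem_coe, Submodule.mem_comap]
      fin_cases i
      · exact Submodule.subset_span ⟨1, rfl⟩
      · show S (S w) ∈ Submodule.span F (Set.range b)
        rw [hSS]
        exact sub_mem (Submodule.smul_mem _ _ (Submodule.subset_span ⟨1, rfl⟩)) (Submodule.subset_span ⟨0, rfl⟩)
  let bb : Basis (Fin 2) F V := basisOfTopLeSpanOfCardEqFinrank b htop (by simp [hdim])
  have hb0 : bb 0 = w := by simp [bb, b]
  have hb1 : bb 1 = S w := by simp [bb, b]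
  obtain ⟨c, hc⟩ : ∃ c : F, c = a + a⁻¹ - s * a := ⟨_, rfl⟩
  let L : End F V := bb.constr F ![a • w + c • S w, a⁻¹ • S w]
  let U : End F V := bb.constr F ![a • S w, -a⁻¹ • w + (s * a + c) • S w]
  have hLw : L w = a • w + c • S w := by (conv_lhs => rw [← hb0, bb.constr_basis]); rfl
  have hLSw : L (S w) = a⁻¹ • S w := by (conv_lhs => rw [← hb1, bb.constr_basis]); rfl
  have hUw : U w = a • S w := by (conv_lhs => rw [← hb0, bb.constr_basis]); rfl
  have hUSw : U (S w) = -a⁻¹ • w + (s * a + c) • S w := by (conv_lhs => rw [← hb1, bb.constr_basis]); rfl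
  have heq : S = L * U := bb.ext fun i => by
    fin_cases i
    · simp [hb0, hUw, hLSw, ha]
    · simp only [Fin.mk_one, hb1, Module.End.mul_apply, hUSw, map_add, map_smul, hLw, hLSw, hSS]
      match_scalars <;> field_simp <;> ring
  set P : F[X] := (X - C a⁻¹) * (X - C a) with hP
  have hne : a⁻¹ ≠ a := fun e => ha1 (by
    have h1 := mul_inv_cancel₀ ha
    rwa [e] at h1)
  have hco : IsCoprime (X - C a⁻¹) (X - C a) := isCoprime_X_sub_C_of_isUnit_sub (sub_ne_zero.2 hne).isUnit
  have ha_one : a ≠ 1 := fun e => ha1 (by rw [e, one_mul])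
  have hPm : P.Monic := (monic_X_sub_C _).mul (monic_X_sub_C _)
  have hPd : P.natDegree = 2 := by rw [hP, natDegree_mul (X_sub_C_ne_zero _) (X_sub_C_ne_zero _)]; simp
  have hcycL : Cyc L P := by
    refine cyc_coprime (W₀ := F ∙ S w) (w₀ := S w) (x := w) (monic_X_sub_C _) (monic_X_sub_C _) hco
      (by simp [hdim]) (Submodule.mem_span_singleton_self _) (fun y hy => ?_) (by simp [hLSw]) ?_ (fun y => ?_)
    · obtain ⟨d, rfl⟩ := Submodule.mem_span_singleton.1 hy
      exact ⟨C d, by simp⟩
    · exact Submodule.mem_span_singleton.2 ⟨c, by simp [hLw]⟩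
    · refine ⟨C (bb.repr y 0), bb.repr y 1 • S w,
        Submodule.smul_mem _ _ (Submodule.mem_span_singleton_self _), ?_⟩
      conv_lhs => rw [← bb.sum_repr y, Fin.sum_univ_two, hb0, hb1]
      simp
  have hcycU : Cyc U P := by
    refine cyc_mk hPm (hPd.trans hdim.symm) (v := w) (fun y => ?_) ?_
    · refine ⟨C (bb.repr y 0) + C (bb.repr y 1 * a⁻¹) * X, ?_⟩
      conv_rhs => rw [← bb.sum_repr y, Fin.sum_univ_two, hb0, hb1]
      simp [hUw, smul_smul, ha]
    · simp only [hP, map_mul, map_sub, aeval_X, aeval_C, Module.End.mul_apply, LinearMap.sub_apply,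
        Module.algebraMap_end_apply, hUw, map_smul, hUSw, hc]
      match_scalars <;> field_simp <;> ring
  refine ⟨L, U, P, ⟨heq, ⟨X - C a⁻¹, X - C a, irreducible_X_sub_C a, ?_, rfl, hco⟩, ⟨rfl, Iff.rfl, 1,
    fun A _ _ g g' hgg hg'g => ?_⟩, hcycL, hcycU, ?_⟩, ?_⟩
  · simpa [sub_eq_zero] using Ne.symm ha_one
  · have e : ∀ r : F, r ≠ 0 → aeval g' (X - C r) = -r • (g' * aeval g (X - C r⁻¹)) := fun r hr => by
      simp only [map_sub, aeval_X, aeval_C, mul_sub, hg'g, Algebra.algebraMap_eq_smul_one, mul_smul_comm, mul_one,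
        smul_sub, smul_smul, neg_mul, mul_inv_cancel₀ hr]
      module
    have hcm : Commute g g' := hgg.trans hg'g.symm
    have hswap : Commute (aeval g (X - C a)) g' := by
      simp only [map_sub, aeval_X, aeval_C]
      exact hcm.sub_left (Algebra.commute_algebraMap_left _ _)
    have hsw2 : (X - C a) * (X - C a⁻¹) = P := mul_comm _ _
    rw [one_smul, hPd, hP, map_mul, e _ (inv_ne_zero ha), e a ha, inv_inv, smul_mul_smul_comm, neg_mul_neg,
      inv_mul_cancel₀ ha, one_smul, mul_assoc g' (aeval g _), ← mul_assoc (aeval g _) g', hswap.eq,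
      mul_assoc g' (aeval g _), ← mul_assoc g' g', ← pow_two, ← map_mul, hsw2]
  · rw [hcycL.det, hdim, hP, mul_coeff_zero]
    simp [ha]
  · simp only [hP, eval_mul, eval_sub, eval_X, eval_C, mul_ne_zero_iff, sub_ne_zero]
    exact ⟨fun e => ha_one (inv_eq_one.1 e.symm), Ne.symm ha_one⟩

end CfsgLib.SLComm
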