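import Cfsg.Agent.Lib.SLComm.Merge
import Cfsg.Agent.Lib.SLComm.Final2

/-!
The recursion over the blocks.
-/

set_option autoImplicit false

namespace CfsgLib.SLComm

open Polynomial Module

universe u

variable {F : Type u} [Field F] [Finite F]

theorem exists_quad (δ : F) (hδ : δ ≠ 0) : ∃ t : F, ∀ z : F, z ^ 2 + t * z + δ ≠ 0 := by
  classical
  haveI := Fintype.ofFinite F
  by_contra hc
  push_neg at hc
  have hsurj : Function.Surjective fun z : {z : F // z ≠ 0} => -(z : F) - δ / z := fun t => by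
    obtain ⟨z, hz⟩ := hc t
    have hz0 : z ≠ 0 := fun e => hδ (by simpa [e] using hz)
    refine ⟨⟨z, hz0⟩, ?_⟩
    show -z - δ / z = t
    field_simp
    linear_combination -hz
  exact absurd (Fintype.card_le_of_surjective _ hsurj)
    (not_le.2 (Fintype.card_subtype_lt (x := (0 : F)) (by simp)))

theorem exists_notMem (s : Finset F) (hs : s.card < Nat.card F) : ∃ a : F, a ∉ s := by
  classical
  haveI := Fintype.ofFinite F
  by_contra hc
  push_neg at hc
  rw [Nat.card_eq_fintype_card, ← Finset.card_univ] at hs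
  exact absurd (Finset.card_le_card fun a (_ : a ∈ Finset.univ) => hc a) (not_le.2 hs)

section

variable {V : Type u} [AddCommGroup V] [Module F V] [FiniteDimensional F V]

omit [Finite F] in
theorem finrank_ker_add_one {f : V →ₗ[F] F} {v : V} (hfv : f v = 1) :
    finrank F (LinearMap.ker f) + 1 = finrank F V := by
  have h1 := Submodule.finrank_quotient_add_finrank (LinearMap.ker f)
  have hsurj : Function.Surjective f := fun c => ⟨c • v, by simp [hfv]⟩
  rw [(f.quotKerEquivOfSurjective hsurj).finrank_eq, Module.finrank_self] at h1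
  omega

omit [Finite F] in
theorem Dec.single_gen {S : End F V} {x : Fin 1 → V} {k : Fin 1 → ℕ} (h : Dec S x k) (z : V) :
    ∃ p : F[X], aeval S p (x 0) = z := by
  obtain ⟨p, hp⟩ := h.span z
  exact ⟨p 0, by rw [hp, Fin.sum_univ_one]⟩

/-- The factorization of a single block whose polynomial avoids the root one. -/
theorem fac_single {S : End F V} {x : Fin 1 → V} {k : Fin 1 → ℕ} (hdet : LinearMap.det S = 1) (h : Dec S x k)
    (hk : 2 ≤ k 0) (hsz : 3 ≤ finrank F V ∨ 4 ≤ Nat.card F) (hF : 3 ≤ Nat.card F) :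
    ∃ (L U : End F V) (P P' : F[X]), Fac S L U P P' ∧ P.eval 1 ≠ 0 := by
  classical
  have hn : k 0 = finrank F V := by simpa using h.sum
  by_cases h2 : finrank F V = 2
  · obtain ⟨L, U, P, hfac, h1⟩ := final_two h2 h.single_gen hdet (hsz.resolve_left (by omega))
    exact ⟨L, U, P, P, hfac, h1⟩
  obtain ⟨ν, hν⟩ := exists_notMem ({0, 1} : Finset F) (lt_of_le_of_lt Finset.card_le_two hF)
  simp only [Finset.mem_insert, Finset.mem_singleton, not_or] at hν
  obtain ⟨j, hj⟩ : ∃ j, finrank F V = j + 2 := ⟨finrank F V - 2, by omega⟩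
  obtain ⟨t, ht⟩ := exists_quad (ν ^ j)⁻¹ (inv_ne_zero (pow_ne_zero _ hν.1))
  obtain ⟨L, U, hfac, -⟩ := final (by omega) hj h.single_gen hdet hν.1 ht
    (mul_inv_cancel₀ (pow_ne_zero _ hν.1))
  refine ⟨L, U, _, _, hfac, ?_⟩
  have e1 := ht 1
  rw [one_pow, mul_one] at e1
  simp [sub_eq_zero, Ne.symm hν.2, e1]

theorem isComm_single {S : End F V} {x : Fin 1 → V} {k : Fin 1 → ℕ} (hdet : LinearMap.det S = 1) (h : Dec S x k)
    (hk : 2 ≤ k 0) (hsz : 3 ≤ finrank F V ∨ 4 ≤ Nat.card F) : IsComm S := by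
  have hn : k 0 = finrank F V := by simpa using h.sum
  by_cases h2 : finrank F V = 2
  · obtain ⟨L, U, P, hfac, -⟩ := final_two h2 h.single_gen hdet (hsz.resolve_left (by omega))
    exact hfac.isComm hdet
  obtain ⟨j, hj⟩ : ∃ j, finrank F V = j + 2 := ⟨finrank F V - 2, by omega⟩
  obtain ⟨t, ht⟩ := exists_quad (1 : F) one_ne_zero
  obtain ⟨L, U, hfac, -⟩ := final (by omega) hj h.single_gen hdet one_ne_zero ht (by simp)
  exact hfac.isComm hdet

end

theorem go : ∀ (r : ℕ) {V : Type u} [AddCommGroup V] [Module F V] [FiniteDimensional F V] (S : End F V)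
    (x : Fin (r + 1) → V) (k : Fin (r + 1) → ℕ) (b : V) (c : V →ₗ[F] F),
    LinearMap.det S = 1 → Dec S x k → Seed S x k b c → 2 ≤ k 0 →
    (∀ a : Fin r, 2 ≤ k a.succ ∨
      (k a.succ = 1 ∧ 4 ≤ Nat.card F ∧ ∃ ε : F, ε ≠ 1 ∧ ε ≠ 0 ∧ S (x a.succ) = ε • x a.succ)) →
    (r + 3 ≤ finrank F V ∨ 4 ≤ Nat.card F) → 3 ≤ Nat.card F →
    ∃ (L U : End F V) (P P' : F[X]), Fac S L U P P' ∧ Link L U P b c := by
  intro r
  induction r with
  | zero =>
    intro V _ _ _ S x k b c hdet h _ hk _ hsz hF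
    obtain ⟨L, U, P, P', hfac, h1⟩ := fac_single hdet h hk (by omega) hF
    exact ⟨L, U, P, P', hfac, Or.inl h1⟩
  | succ r ih =>
    intro V _ _ _ S x k b c hdet h hseed hk hs hsz hF
    classical
    obtain ⟨⟨p, hp⟩, hb, hc0, hcs⟩ := hseed
    obtain ⟨f, v, hfv, hfS, y, k', hd, hfb⟩ : ∃ (f : V →ₗ[F] F) (v : V) (hfv : f v = 1) (hfS : f (S v) = 1)
        (y : Fin (r + 1) → LinearMap.ker f) (k' : Fin (r + 1) → ℕ),
        StepData S x k f v y k' hfv hfS ∧ f b ≠ 0 := by
      have hdet0 : LinearMap.det S ≠ 0 := hdet.symm ▸ one_ne_zero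
      rcases hs 0 with h1 | ⟨h1, h4, ε, hε1, hε0, hSx⟩
      · obtain ⟨f, v, hfv, hfS, y, k', hd, hf0, hfz, -⟩ := merge_big h hdet0 hk h1
        exact ⟨f, v, hfv, hfS, y, k', hd, hb f hf0 hfz⟩
      · obtain ⟨g₀, hg₀⟩ := h.exists_functional (fun a i => if a = 0 ∧ i = 0 then 1 else 0)
        obtain ⟨g₁, hg₁⟩ := h.exists_functional (fun a i => if a = 0 ∧ i = 1 then 1 else 0)
        have hF0 : g₀ b ≠ 0 := hb g₀ (by simpa using hg₀ 0 0 (by omega)) fun i h1 h2 => by
          rw [hg₀ 0 i h2, if_neg (by omega)]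
        obtain ⟨α, hα⟩ := exists_notMem ({0, ε⁻¹, (g₀ b + g₁ b) / (g₀ b + ε * g₁ b)} : Finset F)
          (lt_of_le_of_lt Finset.card_le_three h4)
        simp only [Finset.mem_insert, Finset.mem_singleton, not_or] at hα
        obtain ⟨hα0, hαε, hαq⟩ := hα
        obtain ⟨f, v, hfv, hfS, y, k', hd, hform⟩ := merge_small (α := α) h hk h1 hε1 hε0 hSx hα0
          (fun e => hαε (eq_inv_of_mul_eq_one_left e))
        refine ⟨f, v, hfv, hfS, y, k', hd, ?_⟩
        rw [← hp, hform g₀ g₁ (fun i hi => by rw [hg₀ 0 i hi]; simp) (fun i hi => by rw [hg₁ 0 i hi]; simp) p, hp]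
        intro e
        have e' : g₀ b + g₁ b = α * (g₀ b + ε * g₁ b) := by linear_combination e
        by_cases hz : g₀ b + ε * g₁ b = 0
        · have h2 : (ε - 1) * g₁ b = 0 := by rw [hz, mul_zero] at e'; linear_combination hz - e'
          have h3 := (mul_eq_zero.1 h2).resolve_left (sub_ne_zero.2 hε1)
          exact hF0 (by rw [h3, mul_zero, add_zero] at hz; exact hz)
        · exact hαq (by rw [eq_div_iff hz, e'])
    have hdim := finrank_ker_add_one hfv
    obtain ⟨L', U', P, P', hfac, hlink⟩ := ih (resKer S f v hfS) y k' _ _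
      ((det_resKer S f v hfv hfS).trans hdet) hd.dec hd.seed
      (by have h1 := hd.first; have h2 := hs 0; rcases h2 with h2 | ⟨h2, -⟩ <;>
            rw [Fin.succ_zero_eq_one] at h2 <;> omega)
      (fun a => by
        rw [(hd.rest a).2]
        rcases hs a.succ with h1 | ⟨h1, h4, ε, hε1, hε0, hSx⟩
        · exact Or.inl h1
        · refine Or.inr ⟨h1, h4, ε, hε1, hε0, Subtype.ext ?_⟩
          show res S f v (y a.succ : V) = ε • (y a.succ : V)
          rw [(hd.rest a).1, ← hd.act a, hSx])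
      (by omega) hF
    obtain ⟨L, U, hfac', hfL, hUv⟩ := step S f v hfv hfS L' U' P P' hfac hlink
    refine ⟨L, U, _, _, hfac', Or.inr ⟨⟨f, hfL, hfb⟩, v, hUv, ?_⟩⟩
    rw [hd.vec, map_add, ← Fin.succ_zero_eq_one, hcs 0, add_zero]
    exact hc0

theorem isComm_chain {V : Type u} [AddCommGroup V] [Module F V] [FiniteDimensional F V] {r : ℕ} {S : End F V}
    {x : Fin (r + 2) → V} {k : Fin (r + 2) → ℕ} (hdet : LinearMap.det S = 1) (h : Dec S x k) (hk : 2 ≤ k 0)
    (h1 : 2 ≤ k 1 ∨ (k 1 = 1 ∧ ∃ ε : F, ε ≠ 1 ∧ ε ≠ 0 ∧ S (x 1) = ε • x 1))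
    (hs : ∀ a : Fin r, 2 ≤ k a.succ.succ ∨
      (k a.succ.succ = 1 ∧ 4 ≤ Nat.card F ∧ ∃ ε : F, ε ≠ 1 ∧ ε ≠ 0 ∧ S (x a.succ.succ) = ε • x a.succ.succ))
    (hsz : r + 4 ≤ finrank F V ∨ 4 ≤ Nat.card F) (hF : 3 ≤ Nat.card F) : IsComm S := by
  classical
  obtain ⟨f, v, hfv, hfS, y, k', hd⟩ : ∃ (f : V →ₗ[F] F) (v : V) (hfv : f v = 1) (hfS : f (S v) = 1)
      (y : Fin (r + 1) → LinearMap.ker f) (k' : Fin (r + 1) → ℕ), StepData S x k f v y k' hfv hfS := by
    rcases h1 with h1 | ⟨h1, ε, hε1, hε0, hSx⟩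
    · obtain ⟨f, v, hfv, hfS, y, k', hd, -⟩ := merge_big h (hdet.symm ▸ one_ne_zero) hk h1
      exact ⟨f, v, hfv, hfS, y, k', hd⟩
    · obtain ⟨α, hα⟩ := exists_notMem ({0, ε⁻¹} : Finset F) (lt_of_le_of_lt Finset.card_le_two hF)
      simp only [Finset.mem_insert, Finset.mem_singleton, not_or] at hα
      obtain ⟨f, v, hfv, hfS, y, k', hd, -⟩ := merge_small (α := α) h hk h1 hε1 hε0 hSx hα.1
        (fun e => hα.2 (eq_inv_of_mul_eq_one_left e))
      exact ⟨f, v, hfv, hfS, y, k', hd⟩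
  have hdim := finrank_ker_add_one hfv
  obtain ⟨L', U', P, P', hfac, hlink⟩ := go r (resKer S f v hfS) y k' _ _
    ((det_resKer S f v hfv hfS).trans hdet) hd.dec hd.seed
    (by have h2 := hd.first; rcases h1 with h1 | ⟨h1, -⟩ <;> omega)
    (fun a => by
      rw [(hd.rest a).2]
      rcases hs a with h1 | ⟨h1, h4, ε, hε1, hε0, hSx⟩
      · exact Or.inl h1
      · refine Or.inr ⟨h1, h4, ε, hε1, hε0, Subtype.ext ?_⟩
        show res S f v (y a.succ : V) = ε • (y a.succ : V)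
        rw [(hd.rest a).1, ← hd.act a, hSx])
    (by omega) hF
  obtain ⟨L, U, hfac', -, -⟩ := step S f v hfv hfS L' U' P P' hfac hlink
  exact hfac'.isComm hdet

/-- Two blocks in characteristic two, the first of order two. -/
theorem isComm_two_big {V : Type u} [AddCommGroup V] [Module F V] [FiniteDimensional F V] {S : End F V}
    {x : Fin 2 → V} {k : Fin 2 → ℕ} (h2 : (2 : F) = 0) (hdet : LinearMap.det S = 1) (h : Dec S x k)
    (hk0 : k 0 = 2) (hk1 : 3 ≤ k 1) (hSS : S (S (x 0)) = x 0) : IsComm S := by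
  classical
  obtain ⟨f, v, hfv, hfS, y, k', hd, hf0, hfz, hy0⟩ := merge_big h (hdet.symm ▸ one_ne_zero) hk0.ge (by omega)
  have hdim := finrank_ker_add_one hfv
  have hk' := hd.first
  have hn : k' 0 = finrank F (LinearMap.ker f) := by simpa using hd.dec.sum
  obtain ⟨j, hj⟩ : ∃ j, finrank F (LinearMap.ker f) = j + 2 := ⟨finrank F (LinearMap.ker f) - 2, by omega⟩
  obtain ⟨t, ht⟩ := exists_quad (1 : F) one_ne_zero
  obtain ⟨L', U', hfac, hUw, φ, hφL, hφw, -, hφ2⟩ :=
    final (by omega) hj hd.dec.single_gen ((det_resKer S f v hfv hfS).trans hdet) one_ne_zero ht (by simp)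
  set R := resKer S f v hfS
  set b : LinearMap.ker f := ⟨S v - v, by simp [hfv, hfS]⟩
  have hneg : ∀ z : V, -z = z := fun z => by
    have h1 : (2 : F) • z = 0 := by rw [h2, zero_smul]
    rw [two_smul] at h1
    exact neg_eq_of_add_eq_zero_left h1
  have hv : v = x 0 + x 1 := hd.vec
  have hf1 : f (S (x 0)) = 0 := by simpa using hfz 1 le_rfl (by omega)
  have hf11 : f (S (x 1)) = 1 := by
    have h1 := hfS
    rwa [hv, map_add, map_add, hf1, zero_add] at h1
  have hb : b = R (R (y 0)) + y 0 := by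
    refine Subtype.ext ?_
    show S v - v = res S f v (res S f v (y 0 : V)) + (y 0 : V)
    have e1 : res S f v (x 1) = S (x 0) := by
      rw [res_apply, hf11, one_smul, hv, map_add, sub_add_eq_sub_sub, sub_right_comm, sub_self, zero_sub, hneg]
    rw [hy0, e1, res_apply, hSS, hf0, one_smul, hv]
    rw [sub_eq_add_neg, hneg, sub_eq_add_neg, hneg]
    abel
  have hc : ((f.comp S).comp (LinearMap.ker f).subtype) (y 0) ≠ 0 := by
    show f (S (y 0 : V)) ≠ 0
    rw [hy0, hf11]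
    exact one_ne_zero
  have hφb : φ b ≠ 0 := by
    rw [hb, map_add, hφw, hφ2 (by omega), h2, zero_add]
    exact one_ne_zero
  obtain ⟨L, U, hfac', -, -⟩ := step S f v hfv hfS L' U' _ _ hfac
    (Or.inr ⟨⟨φ, fun z => by rw [hφL, one_mul], hφb⟩, y 0, by rw [hUw, inv_one, one_smul], hc⟩)
  exact hfac'.isComm hdet

end CfsgLib.SLComm
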