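import Cfsg.Agent.Lib.SLComm.Dec
import Cfsg.Agent.Lib.SLComm.Final

/-!
Merging blocks one after the other.
-/

set_option autoImplicit false

namespace CfsgLib.SLComm

open Polynomial Module

universe u

variable {F : Type u} [Field F] [Finite F]
variable {V : Type u} [AddCommGroup V] [Module F V] [FiniteDimensional F V]
variable {S : End F V} {r : ℕ} {x : Fin (r + 2) → V} {k : Fin (r + 2) → ℕ}

/-- The data of one step. -/
structure StepData (S : End F V) (x : Fin (r + 2) → V) (k : Fin (r + 2) → ℕ) (f : V →ₗ[F] F) (v : V)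
    (y : Fin (r + 1) → LinearMap.ker f) (k' : Fin (r + 1) → ℕ) (hfv : f v = 1) (hfS : f (S v) = 1) : Prop where
  dec : Dec (resKer S f v hfS) y k'
  first : k' 0 + 1 = k 0 + k 1
  rest : ∀ a : Fin r, (y a.succ : V) = x a.succ.succ ∧ k' a.succ = k a.succ.succ
  act : ∀ a : Fin r, S (x a.succ.succ) = res S f v (x a.succ.succ)
  seed : Seed (resKer S f v hfS) y k' ⟨S v - v, by simp [hfv, hfS]⟩ ((f.comp S).comp (LinearMap.ker f).subtype)
  vec : v = x 0 + x 1

omit [Finite F] in
theorem first_coeff (h : Dec S x k) (hk : 1 ≤ k 0) (hdet : LinearMap.det S ≠ 0) {f : V →ₗ[F] F}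
    (hf0 : f (x 0) = 1) (hf : ∀ i, 1 ≤ i → i < k 0 → f ((S ^ i) (x 0)) = 0) :
    f ((S ^ k 0) (x 0)) ≠ 0 := by
  obtain ⟨P, hP, hd, hz⟩ := h.kill 0
  have hfp : ∀ p : F[X], p.degree < (k 0 : ℕ) → f (aeval S p (x 0)) = p.coeff 0 := by
    intro p hp
    by_cases hp0 : p = 0
    · simp [hp0]
    rw [degree_eq_natDegree hp0, Nat.cast_lt] at hp
    rw [aeval_eq_sum_range' (n := k 0) hp, LinearMap.sum_apply, map_sum, Finset.sum_eq_single 0]
    · simp [hf0]
    · intro i hi hi0
      rw [LinearMap.smul_apply, map_smul, hf i (by omega) (Finset.mem_range.1 hi), smul_zero]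
    · intro h0; exact absurd (Finset.mem_range.2 hk) h0
  have e : (S ^ k 0) (x 0) = -aeval S (P - X ^ k 0) (x 0) := by
    rw [map_sub, LinearMap.sub_apply, hz, map_pow, aeval_X, zero_sub, neg_neg]
  have hdeg : (P - (X : F[X]) ^ k 0).degree < ((k 0 : ℕ) : WithBot ℕ) := by
    have h1 := degree_sub_lt (p := P) (q := (X : F[X]) ^ k 0) (by rw [degree_X_pow, degree_eq_natDegree hP.ne_zero, hd])
      hP.ne_zero (by rw [hP.leadingCoeff, leadingCoeff_X_pow])
    rw [degree_eq_natDegree hP.ne_zero, hd] at h1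
    exact h1
  rw [e, map_neg, hfp _ hdeg, neg_ne_zero]
  intro hc
  rw [coeff_sub, coeff_X_pow, if_neg (by omega), sub_zero] at hc
  obtain ⟨P₁, hP₁⟩ := X_dvd_iff.2 hc
  have hne : P₁ ≠ 0 := fun e => hP.ne_zero (by rw [hP₁, e, mul_zero])
  have hd1 : P₁.natDegree + 1 = k 0 := by
    rw [← hd, hP₁, natDegree_mul X_ne_zero hne, natDegree_X, add_comm]
  have hz1 : aeval S P₁ (x 0) = 0 := by
    rw [hP₁, map_mul, Module.End.mul_apply, aeval_X] at hz
    exact (LinearMap.equivOfDetNeZero S hdet).map_eq_zero_iff.1 hz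
  obtain ⟨ψ, hψ⟩ := h.exists_functional (fun a i => if a = 0 ∧ i + 1 = k 0 then 1 else 0)
  have hψ1 : ψ (aeval S P₁ (x 0)) = P₁.coeff P₁.natDegree := by
    rw [aeval_eq_sum_range, LinearMap.sum_apply, map_sum, Finset.sum_eq_single P₁.natDegree]
    · rw [LinearMap.smul_apply, map_smul, hψ 0 _ (by omega), if_pos ⟨rfl, hd1⟩, smul_eq_mul, mul_one]
    · intro i hi hne'
      have := Finset.mem_range.1 hi
      rw [LinearMap.smul_apply, map_smul, hψ 0 i (by omega), if_neg (fun hc => hne' (by omega)), smul_zero]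
    · intro h0; exact absurd (Finset.mem_range.2 (Nat.lt_succ_self _)) h0
  rw [hz1, map_zero] at hψ1
  exact hne (leadingCoeff_eq_zero.1 hψ1.symm)

theorem pow_ker (S : End F V) (f : V →ₗ[F] F) (v : V) (hfS : f (S v) = 1) (i : ℕ) (z : LinearMap.ker f) :
    (((resKer S f v hfS) ^ i) z : V) = (res S f v ^ i) (z : V) := by
  induction i with
  | zero => rfl
  | succ i ih => rw [pow_succ', pow_succ', Module.End.mul_apply, Module.End.mul_apply, ← ih]; rfl

/-- Merging two blocks of size at least two. -/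
theorem merge_big (h : Dec S x k) (hdet : LinearMap.det S ≠ 0) (hk0 : 2 ≤ k 0) (hk1 : 2 ≤ k 1) :
    ∃ (f : V →ₗ[F] F) (v : V) (hfv : f v = 1) (hfS : f (S v) = 1) (y : Fin (r + 1) → LinearMap.ker f)
      (k' : Fin (r + 1) → ℕ), StepData S x k f v y k' hfv hfS ∧
        f (x 0) = 1 ∧ (∀ i, 1 ≤ i → i < k 0 → f ((S ^ i) (x 0)) = 0) ∧ (y 0 : V) = x 1 := by
  classical
  obtain ⟨f, hf⟩ := h.exists_functional
    (fun a i => if (a = 0 ∧ i = 0) ∨ (a = 1 ∧ i = 1) then 1 else 0)
  have h01 : (0 : Fin (r + 2)) ≠ 1 := by simp [Fin.ext_iff]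
  have hf00 : f (x 0) = 1 := by simpa using hf 0 0 (by omega)
  have hf0 : ∀ i, 1 ≤ i → i < k 0 → f ((S ^ i) (x 0)) = 0 := fun i h1 h2 => by
    rw [hf 0 i h2, if_neg]; rintro (⟨-, rfl⟩ | ⟨he, -⟩) <;> [omega; exact h01 he]
  have hf10 : f (x 1) = 0 := by
    have := hf 1 0 (by omega); simpa [h01.symm] using this
  have hf11 : f (S (x 1)) = 1 := by simpa using hf 1 1 (by omega)
  have hf01 : f (S (x 0)) = 0 := by simpa using hf0 1 le_rfl (by omega)
  set v := x 0 + x 1 with hv
  have hfv : f v = 1 := by rw [map_add, hf00, hf10, add_zero]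
  have hfS : f (S v) = 1 := by rw [map_add, map_add, hf01, hf11, zero_add]
  set ρ := res S f v
  -- the first powers
  have hpow : ∀ i, 1 ≤ i → i < k 0 → (ρ ^ i) (x 1) = -(S ^ i) (x 0) := by
    intro i h1 h2
    induction i, h1 using Nat.le_induction with
    | base => rw [pow_one, pow_one, res_apply, hf11, one_smul, map_add]; abel
    | succ i hi ih =>
      rw [pow_succ', Module.End.mul_apply, ih (by omega), map_neg, res_apply, ← Module.End.mul_apply S (S ^ i),
        ← pow_succ', hf0 (i + 1) (by omega) h2, zero_smul, sub_zero]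
  have ha0 := first_coeff h (by omega) hdet hf00 hf0
  obtain ⟨y, k', hdec, hy0, hk', hrest, hact, hb⟩ := dec_res h (by omega) (by omega) f v hv hfv hfS
    (fun a i hi => by rw [hf _ i hi, if_neg]; rintro (⟨he, -⟩ | ⟨he, -⟩) <;> simp [Fin.ext_iff] at he)
    hf10 (Submodule.subset_span (by simp)) (fun G hvG hG => by
      have hx1 : x 1 ∈ G := by simpa using hG 0
      have hx0 : x 0 ∈ G := by simpa [hv] using G.sub_mem hvG hx1
      have hpowG : ∀ i, i < k 0 → (S ^ i) (x 0) ∈ G := fun i hi => by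
        rcases Nat.eq_zero_or_pos i with rfl | h1
        · simpa using hx0
        · have := G.neg_mem (hG i)
          rwa [hpow i h1 hi, neg_neg] at this
      have hlast := hG (k 0)
      obtain ⟨m, hm⟩ : ∃ m, k 0 = m + 1 := ⟨k 0 - 1, by omega⟩
      rw [hm, pow_succ', Module.End.mul_apply, hpow m (by omega) (by omega), map_neg, res_apply,
        ← Module.End.mul_apply S (S ^ m), ← pow_succ', ← hm, Submodule.neg_mem_iff] at hlast
      have hSk : (S ^ k 0) (x 0) ∈ G := by
        have h1 := h.orbit_le 0 (X ^ k 0)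
        rw [map_pow, aeval_X] at h1
        refine (Submodule.span_le.2 ?_) h1
        rintro _ ⟨i, rfl⟩
        exact hpowG i i.2
      have h2 := (G.smul_mem_iff ha0).1 (by simpa using G.sub_mem hSk hlast)
      exact ⟨h2, hx1⟩)
  refine ⟨f, v, hfv, hfS, y, k', ⟨hdec, hk', hrest, fun a => (hact a).1, ⟨hb _ rfl, fun φ hφ1 hφ0 => ?_, ?_,
    fun a => ?_⟩, hv⟩, hf00, hf0, hy0⟩
  · -- the coordinate at the new cyclic vector
    obtain ⟨ψ, hψ⟩ := h.exists_functional (fun a i => if a = 1 ∧ i = 0 then 1 else 0)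
    let Lm : ℕ → Submodule F V := fun m =>
      Submodule.span F (Set.range fun i : Fin (k 0) => (S ^ (i : ℕ)) (x 0)) ⊔
        Submodule.span F (Set.range fun i : Fin m => (S ^ ((i : ℕ) + 1)) (x 1))
    have hL0 : ∀ m (p : F[X]), aeval S p (x 0) ∈ Lm m := fun m p => Submodule.mem_sup_left (h.orbit_le 0 p)
    have hstep : ∀ i, k 0 ≤ i + 1 → 1 ≤ i → (ρ ^ i) (x 1) ∈ Lm (i + 1 - k 0) := by
      intro i hi
      induction i with
      | zero => omega
      | succ i ih =>
        intro _
        by_cases h2 : i + 1 < k 0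
        · rw [hpow (i + 1) (by omega) h2]
          refine Submodule.neg_mem _ ?_
          simpa using hL0 _ (X ^ (i + 1))
        rw [pow_succ', Module.End.mul_apply, res_apply]
        have hz := ih (by omega) (by omega)
        have hS : Lm (i + 1 - k 0) ≤ (Lm (i + 1 + 1 - k 0)).comap S := by
          refine sup_le (Submodule.span_le.2 ?_) (Submodule.span_le.2 ?_) <;> rintro _ ⟨l, rfl⟩
          · simpa [pow_succ'] using hL0 _ (X ^ ((l : ℕ) + 1))
          · refine Submodule.mem_sup_right (Submodule.subset_span ⟨⟨(l : ℕ) + 1, ?_⟩, ?_⟩)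
            · have := l.2; omega
            · show (S ^ ((l : ℕ) + 1 + 1)) (x 1) = _
              rw [pow_succ', Module.End.mul_apply]
        refine sub_mem (hS hz) (Submodule.smul_mem _ _ ?_)
        rw [hv, map_add]
        refine add_mem (by simpa using hL0 _ X) (Submodule.mem_sup_right (Submodule.subset_span ⟨⟨0, by omega⟩, ?_⟩))
        simp
    have hψy : ∀ i, i < k' 0 → (ψ.comp (LinearMap.ker f).subtype) ((resKer S f v hfS ^ i) (y 0)) =
        φ ((resKer S f v hfS ^ i) (y 0)) := by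
      intro i hi
      rw [LinearMap.comp_apply, Submodule.subtype_apply, pow_ker, hy0]
      rcases Nat.eq_zero_or_pos i with rfl | h1
      · simp only [pow_zero, Module.End.one_apply, hφ1]
        simpa using hψ 1 0 (by omega)
      rw [hφ0 i h1 hi]
      have hker : ∀ m, m + 1 ≤ k 1 → Lm m ≤ LinearMap.ker ψ := fun m hm => by
        refine sup_le (Submodule.span_le.2 ?_) (Submodule.span_le.2 ?_) <;> rintro _ ⟨l, rfl⟩
        · simp [hψ 0 l l.2, h01]
        · have := l.2
          simp [hψ 1 ((l : ℕ) + 1) (by omega)]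
      by_cases h2 : i < k 0
      · rw [hpow i h1 h2, map_neg, hψ 0 i h2, if_neg (fun hc => h01 hc.1), neg_zero]
      · exact hker _ (by omega) (hstep i (by omega) h1)
    obtain ⟨p, hp⟩ := hb ⟨S v - v, by simp [hfv, hfS]⟩ rfl
    rw [← hp, ← hdec.orbit_functional hψy p, hp, LinearMap.comp_apply, Submodule.subtype_apply]
    show ψ (S v - v) ≠ 0
    rw [hv, map_sub, map_add, map_add, map_add]
    have e1 : ψ (x 0) = 0 := by simpa [h01] using hψ 0 0 (by omega)
    have e2 : ψ (S (x 0)) = 0 := by simpa [h01] using hψ 0 1 (by omega)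
    have e3 : ψ (x 1) = 1 := by simpa using hψ 1 0 (by omega)
    have e4 : ψ (S (x 1)) = 0 := by simpa using hψ 1 1 (by omega)
    rw [e1, e2, e3, e4]
    simp
  · show f (S (y 0 : V)) ≠ 0
    rw [hy0, hf11]
    exact one_ne_zero
  · show f (S (y a.succ : V)) = 0
    rw [(hrest a).1]
    exact (hact a).2

/-- Appending a block of size one. -/
theorem merge_small (h : Dec S x k) (hk0 : 2 ≤ k 0) (hk1 : k 1 = 1) {ε : F} (hε : ε ≠ 1)
    (hε0 : ε ≠ 0) (hSx : S (x 1) = ε • x 1) {α : F} (hα : α ≠ 0) (hαε : α * ε ≠ 1) :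
    ∃ (f : V →ₗ[F] F) (v : V) (hfv : f v = 1) (hfS : f (S v) = 1) (y : Fin (r + 1) → LinearMap.ker f)
      (k' : Fin (r + 1) → ℕ), StepData S x k f v y k' hfv hfS ∧
        ∀ g₀ g₁ : V →ₗ[F] F, (∀ i, i < k 0 → g₀ ((S ^ i) (x 0)) = if i = 0 then 1 else 0) →
          (∀ i, i < k 0 → g₁ ((S ^ i) (x 0)) = if i = 1 then 1 else 0) →
          ∀ p : F[X], f (aeval S p (x 0)) = (1 - α) * g₀ (aeval S p (x 0)) + (1 - α * ε) * g₁ (aeval S p (x 0)) := by
  classical
  obtain ⟨f, hf⟩ := h.exists_functional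
    (fun a i => if a = 1 then α else if a = 0 then (if i = 0 then 1 - α else if i = 1 then 1 - α * ε else 0) else 0)
  have h01 : (0 : Fin (r + 2)) ≠ 1 := by simp [Fin.ext_iff]
  have hf00 : f (x 0) = 1 - α := by simpa [h01] using hf 0 0 (by omega)
  have hf01 : f (S (x 0)) = 1 - α * ε := by simpa [h01] using hf 0 1 (by omega)
  have hf10 : f (x 1) = α := by simpa using hf 1 0 (by omega)
  set v := x 0 + x 1 with hv
  have hfv : f v = 1 := by rw [map_add, hf00, hf10]; ring
  have hfS : f (S v) = 1 := by rw [map_add, map_add, hf01, hSx, map_smul, hf10, smul_eq_mul]; ring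
  set δ := 1 - α * ε with hδ
  have hδ0 : δ ≠ 0 := fun e => hαε (sub_eq_zero.1 e).symm
  -- the cyclic vector is moved into the kernel
  set w := α • x 0 - (1 - α) • x 1 with hw
  have hfw : f w = 0 := by rw [hw, map_sub, map_smul, map_smul, hf00, hf10, smul_eq_mul, smul_eq_mul]; ring
  have hSw : f (S w) = α * (1 - ε) := by
    rw [hw, map_sub, map_sub, map_smul, map_smul, map_smul, map_smul, hf01, hSx, map_smul, hf10]
    simp only [smul_eq_mul, hδ]
    ring
  have hres : res S f v w = (α * ε) • (S (x 0) - x 1) + (-(α * (1 - ε) * ε) - (1 - α) * ε + α * ε) • x 1 := by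
    rw [res_apply, hSw, hw, hv]
    simp only [map_add, map_sub, map_smul, hSx]
    module
  obtain ⟨y, k', hdec, hy0, hk', hrest, hact, hb⟩ := dec_res h (by omega) (by omega) f v hv hfv hfS
    (fun a i hi => by rw [hf _ i hi, if_neg (by simp [Fin.ext_iff]), if_neg (by simp [Fin.ext_iff])])
    hfw (sub_mem (Submodule.smul_mem _ _ (Submodule.subset_span (by simp)))
      (Submodule.smul_mem _ _ (Submodule.subset_span (by simp)))) (fun G hvG hG => by
      have hwG : w ∈ G := by simpa using hG 0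
      have hx0 : x 0 ∈ G := by
        have : x 0 = w + (1 - α) • v := by rw [hw, hv]; module
        rw [this]; exact add_mem hwG (G.smul_mem _ hvG)
      have hx1 : x 1 ∈ G := by simpa [hv] using G.sub_mem hvG hx0
      have h1 := hG 1
      rw [pow_one, hres] at h1
      have h2 : (α * ε) • (S (x 0) - x 1) ∈ G := by
        simpa using G.sub_mem h1 (G.smul_mem (-(α * (1 - ε) * ε) - (1 - α) * ε + α * ε) hx1)
      have h3 := G.add_mem ((G.smul_mem_iff (mul_ne_zero hα hε0)).1 h2) hx1
      rw [sub_add_cancel] at h3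
      refine ⟨?_, hx1⟩
      rw [hv, map_add, hSx]
      exact add_mem h3 (G.smul_mem _ hx1))
  refine ⟨f, v, hfv, hfS, y, k', ⟨hdec, hk', hrest, fun a => (hact a).1, ⟨hb _ rfl, fun φ hφ1 hφ0 => ?_, ?_,
    fun a => ?_⟩, hv⟩, fun g₀ g₁ hg₀ hg₁ p => ?_⟩
  · obtain ⟨ψ, hψ⟩ := h.exists_functional (fun a i => if a = 0 ∧ i = 0 then α⁻¹ else 0)
    let Lm : ℕ → Submodule F V := fun m => F ∙ x 1 ⊔
      Submodule.span F (Set.range fun i : Fin m => (S ^ ((i : ℕ) + 1)) (x 0))
    have hstep : ∀ i, 1 ≤ i → (res S f v ^ i) w ∈ Lm i := by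
      intro i h1
      induction i, h1 using Nat.le_induction with
      | base =>
        rw [pow_one, hres, smul_sub]
        refine add_mem (sub_mem (Submodule.smul_mem _ _ (Submodule.mem_sup_right
          (Submodule.subset_span ⟨0, by simp⟩))) ?_) ?_ <;>
          exact Submodule.smul_mem _ _ (Submodule.mem_sup_left (Submodule.mem_span_singleton_self _))
      | succ i hi ih =>
        rw [pow_succ', Module.End.mul_apply, res_apply]
        have hS : Lm i ≤ (Lm (i + 1)).comap S := by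
          refine sup_le ((Submodule.span_singleton_le_iff_mem _ _).2 ?_) (Submodule.span_le.2 ?_)
          · show S (x 1) ∈ Lm (i + 1)
            rw [hSx]
            exact Submodule.smul_mem _ _ (Submodule.mem_sup_left (Submodule.mem_span_singleton_self _))
          · rintro _ ⟨l, rfl⟩
            refine Submodule.mem_sup_right (Submodule.subset_span ⟨l.succ, ?_⟩)
            show (S ^ ((l : ℕ) + 1 + 1)) (x 0) = _
            rw [pow_succ', Module.End.mul_apply]
        refine sub_mem (hS ih) (Submodule.smul_mem _ _ ?_)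
        rw [hv, map_add, hSx]
        exact add_mem (Submodule.mem_sup_right (Submodule.subset_span ⟨0, by simp⟩))
          (Submodule.smul_mem _ _ (Submodule.mem_sup_left (Submodule.mem_span_singleton_self _)))
    have hψy : ∀ i, i < k' 0 → (ψ.comp (LinearMap.ker f).subtype) ((resKer S f v hfS ^ i) (y 0)) =
        φ ((resKer S f v hfS ^ i) (y 0)) := by
      intro i hi
      rw [LinearMap.comp_apply, Submodule.subtype_apply, pow_ker, hy0]
      have e1 : ψ (x 0) = α⁻¹ := by simpa using hψ 0 0 (by omega)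
      have e3 : ψ (x 1) = 0 := by simpa [h01.symm] using hψ 1 0 (by omega)
      rcases Nat.eq_zero_or_pos i with rfl | h1
      · simp only [pow_zero, Module.End.one_apply, hφ1]
        rw [hw, map_sub, map_smul, map_smul, e1, e3, smul_zero, sub_zero, smul_eq_mul, mul_inv_cancel₀ hα]
      rw [hφ0 i h1 hi]
      refine (sup_le ((Submodule.span_singleton_le_iff_mem _ _).2 e3) (Submodule.span_le.2 ?_) :
        Lm i ≤ LinearMap.ker ψ) (hstep i h1)
      rintro _ ⟨l, rfl⟩
      have := l.2
      simp [hψ 0 ((l : ℕ) + 1) (by omega)]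
    obtain ⟨p, hp⟩ := hb ⟨S v - v, by simp [hfv, hfS]⟩ rfl
    rw [← hp, ← hdec.orbit_functional hψy p, hp, LinearMap.comp_apply, Submodule.subtype_apply]
    show ψ (S v - v) ≠ 0
    rw [hv, map_sub, map_add, map_add, map_add, hSx]
    have e1 : ψ (x 0) = α⁻¹ := by simpa using hψ 0 0 (by omega)
    have e2 : ψ (S (x 0)) = 0 := by simpa using hψ 0 1 (by omega)
    have e3 : ψ (x 1) = 0 := by simpa [h01.symm] using hψ 1 0 (by omega)
    rw [map_smul, e1, e2, e3]
    simpa using inv_ne_zero hα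
  · show f (S (y 0 : V)) ≠ 0
    rw [hy0, hSw]
    exact mul_ne_zero hα (sub_ne_zero.2 (Ne.symm hε))
  · show f (S (y a.succ : V)) = 0
    rw [(hrest a).1]
    exact (hact a).2
  · have h1 := h.orbit_functional (a := 0) (φ := f) (ψ := (1 - α) • g₀ + (1 - α * ε) • g₁) (fun i hi => by
      rw [hf 0 i hi, if_neg h01, if_pos rfl, LinearMap.add_apply, LinearMap.smul_apply, LinearMap.smul_apply,
        hg₀ i hi, hg₁ i hi]
      rcases i with _ | _ | i <;> simp [hδ]) p
    simpa using h1

end CfsgLib.SLComm
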