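import Cfsg.Agent.Lib.SLComm.Split

/-!
Scalar maps of determinant one.
-/

set_option autoImplicit false

namespace CfsgLib.SLComm

open Polynomial Module

universe u

variable {F : Type u} [Field F] [Finite F]

theorem isComm_scalar_order {ε : F} {m : ℕ} (hm : IsPrimitiveRoot ε m) (hm2 : 2 ≤ m) :
    ∃ (W : Type u) (_ : AddCommGroup W) (_ : Module F W) (_ : FiniteDimensional F W),
      finrank F W = m ∧ IsComm (ε • (1 : End F W)) := by
  classical
  haveI : NeZero m := ⟨by omega⟩
  have hmF : (m : F) ≠ 0 := by haveI := hm.neZero'; exact NeZero.ne (m : F)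
  set c : F := (-1) ^ (m + 1) with hc
  have hc0 : c ≠ 0 := pow_ne_zero _ (by simp)
  set P : F[X] := X ^ m - C c with hP
  have hPm : P.Monic := monic_X_pow_sub_C c (by omega)
  have hPd : P.natDegree = m := natDegree_X_pow_sub_C
  have hsep : P.Separable := separable_X_pow_sub_C c hmF hc0
  let pb := AdjoinRoot.powerBasis hPm.ne_zero
  haveI : Module.Finite F (AdjoinRoot P) := pb.finite
  have hdim : finrank F (AdjoinRoot P) = P.natDegree := pb.finrank.trans (AdjoinRoot.powerBasis_dim _)
  refine ⟨AdjoinRoot P, inferInstance, inferInstance, inferInstance, hdim.trans hPd, ?_⟩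
  set A : End F (AdjoinRoot P) := LinearMap.mulLeft F (AdjoinRoot.root P) with hA
  have hpA : ∀ (p : F[X]) (z : AdjoinRoot P), aeval A p z = AdjoinRoot.mk P p * z := fun p z => by
    rw [show A = Algebra.lmul F (AdjoinRoot P) (AdjoinRoot.root P) from rfl, aeval_algHom_apply, AdjoinRoot.aeval_eq]
    rfl
  have hcA : Cyc A P := by
    refine cyc_mk hPm hdim.symm (v := 1) (fun w => ?_) (by rw [hpA, AdjoinRoot.mk_self, zero_mul])
    obtain ⟨p, rfl⟩ := AdjoinRoot.mk_surjective w
    exact ⟨p, by rw [hpA, mul_one]⟩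
  have hε0 : ε ≠ 0 := hm.ne_zero (by omega)
  have hcA' : Cyc (ε • A) P := by
    have hz : aeval (ε • A) P = 0 := by
      have h1 := hcA.2.2.1
      simp only [hP, map_sub, map_pow, aeval_X, aeval_C, _root_.smul_pow, hm.pow_eq_one, one_smul] at h1 ⊢
      exact h1
    refine ⟨hPm, hdim.symm, hz, 1, fun w => ?_⟩
    obtain ⟨p, rfl⟩ := AdjoinRoot.mk_surjective w
    refine ⟨p.comp (C ε⁻¹ * X), ?_⟩
    rw [aeval_comp, map_mul, aeval_C, aeval_X, ← Algebra.smul_def, inv_smul_smul₀ hε0, hpA, mul_one]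
  obtain ⟨h, hirr, hdvd⟩ := WfDvdMonoid.exists_irreducible_factor
    (fun hu => by have := natDegree_eq_zero_of_isUnit hu; omega) hPm.ne_zero
  obtain ⟨A₁, hA₁⟩ := hdvd
  rw [mul_comm] at hA₁
  obtain ⟨e, he⟩ := hcA'.similar hcA
  obtain ⟨d, hd, hde⟩ := exists_det_commute (f := ε • A) (hA₁ ▸ hcA' : Cyc (ε • A) (A₁ * h)) hirr
    (Separable.isCoprime (hA₁ ▸ hsep)) (d := (LinearMap.det (e : AdjoinRoot P →ₗ[F] AdjoinRoot P))⁻¹)
    (inv_ne_zero e.isUnit_det'.ne_zero)
  refine ⟨A, (e : AdjoinRoot P →ₗ[F] AdjoinRoot P) * d, ?_, ?_, ?_⟩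
  · rw [hcA.det, hdim, hPd, hP, coeff_sub, coeff_C_zero, coeff_X_pow, if_neg (by omega), zero_sub, hc, pow_succ]
    rw [mul_neg_one, neg_neg, ← mul_pow, neg_one_mul, neg_neg, one_pow]
  · rw [map_mul, hde, mul_inv_cancel₀ e.isUnit_det'.ne_zero]
  · refine LinearMap.ext fun z => ?_
    have h1 : d (ε • A z) = ε • A (d z) := LinearMap.congr_fun hd z
    simp only [Module.End.mul_apply, LinearMap.smul_apply, Module.End.one_apply, LinearEquiv.coe_coe]
    rw [← map_smul e, ← map_smul d, h1]
    exact he (d z)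

theorem isComm_scalar_mul {ε : F} {m : ℕ} {W : Type u} [AddCommGroup W] [Module F W] [FiniteDimensional F W]
    (hW : finrank F W = m) (h : IsComm (ε • (1 : End F W))) :
    ∀ (k : ℕ) {V : Type u} [AddCommGroup V] [Module F V] [FiniteDimensional F V],
      finrank F V = k * m → IsComm (ε • (1 : End F V)) := by
  intro k
  induction k with
  | zero => intro V _ _ _ hV; exact isComm_of_finrank_zero _ (by simpa using hV)
  | succ k ih =>
    intro V _ _ _ hV
    let V' := Fin (k * m) → F
    let e : (V' × W) ≃ₗ[F] V := LinearEquiv.ofFinrankEq _ _ (by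
      rw [Module.finrank_prod, finrank_fin_fun, hW, hV, Nat.succ_mul])
    have h1 := isComm_conj e (isComm_prodMap (ih (V := V') (finrank_fin_fun F)) h)
    convert h1 using 1
    refine LinearMap.ext fun z => ?_
    simp only [LinearMap.comp_apply, LinearEquiv.coe_coe, LinearMap.prodMap_apply, LinearMap.smul_apply,
      Module.End.one_apply]
    rw [← Prod.smul_mk, Prod.mk.eta, map_smul, LinearEquiv.apply_symm_apply]

theorem isComm_scalar {V : Type u} [AddCommGroup V] [Module F V] [FiniteDimensional F V] {ε : F} (hε : ε ≠ 1)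
    (hn : ε ^ finrank F V = 1) : IsComm (ε • (1 : End F V)) := by
  by_cases h0 : finrank F V = 0
  · exact isComm_of_finrank_zero _ h0
  have hdvd := orderOf_dvd_of_pow_eq_one hn
  have hm : 2 ≤ orderOf ε := by
    have h1 : orderOf ε ≠ 1 := fun e => hε (orderOf_eq_one_iff.1 e)
    have h2 : orderOf ε ≠ 0 := fun e => h0 (Nat.eq_zero_of_zero_dvd (e ▸ hdvd))
    omega
  obtain ⟨W, _, _, _, hW, h⟩ := isComm_scalar_order (IsPrimitiveRoot.orderOf ε) hm
  obtain ⟨k, hk⟩ := hdvd
  exact isComm_scalar_mul hW h k (by rw [hk, mul_comm])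

/-- Blocks of size one with a common eigenvalue. -/
theorem comm_scalar {ι : Type*} [Fintype ι] {P : ι → F[X]} {ε : F} (hP : ∀ i, P i = X - C ε)
    (hd : dprod P = 1) : Comm P := by
  intro V _ _ _ S x hb
  have hS : S = ε • 1 := by
    refine LinearMap.ext fun z => ?_
    obtain ⟨p, rfl⟩ := hb.span z
    rw [map_sum, map_sum]
    refine Finset.sum_congr rfl fun i _ => ?_
    have h1 := hb.kill i
    rw [hP, map_sub, aeval_X, aeval_C, LinearMap.sub_apply, Module.algebraMap_end_apply, sub_eq_zero] at h1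
    have h2 : aeval S (X * p i) (x i) = aeval S (p i * X) (x i) := by rw [mul_comm]
    rw [map_mul, map_mul, aeval_X, Module.End.mul_apply, Module.End.mul_apply, h1, map_smul] at h2
    rw [h2, LinearMap.smul_apply, Module.End.one_apply]
  by_cases hε : ε = 1
  · rw [hS, hε, one_smul]
    exact isComm_one
  rw [hS]
  refine isComm_scalar hε ?_
  have hn : Fintype.card ι = finrank F V := by rw [← hb.sum]; simp [hP]
  simpa [dprod, hP, hn] using hd

end CfsgLib.SLComm
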