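import Cfsg.Agent.Lib.SLComm.Go

/-!
Families of cyclic blocks, splitting and joining.
-/

set_option autoImplicit false

namespace CfsgLib.SLComm

open Polynomial Module

attribute [-instance] Fintype.subtypeEq Fintype.subtypeEq'

universe u

variable {F : Type u} [Field F] [Finite F]
variable {V : Type u} [AddCommGroup V] [Module F V] [FiniteDimensional F V]
variable {ι : Type*} {κ : Type*} [Fintype ι] [Fintype κ]

/-- A family of cyclic blocks with their polynomials. -/
structure BDec (S : End F V) (x : ι → V) (P : ι → F[X]) : Prop where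
  monic : ∀ i, (P i).Monic
  kill : ∀ i, aeval S (P i) (x i) = 0
  sum : ∑ i, (P i).natDegree = finrank F V
  span : ∀ z, ∃ p : ι → F[X], z = ∑ i, aeval S (p i) (x i)

/-- The determinant belonging to a family of polynomials. -/
noncomputable def dprod (P : ι → F[X]) : F := ∏ i, (-1) ^ (P i).natDegree * (P i).coeff 0

/-- Every map with these blocks is a commutator. -/
def Comm (P : ι → F[X]) : Prop :=
  ∀ (V : Type u) [AddCommGroup V] [Module F V] [FiniteDimensional F V] (S : End F V) (x : ι → V),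
    BDec S x P → IsComm S

omit [Finite F] in
theorem BDec.dec {S : End F V} {r : ℕ} {x : Fin r → V} {P : Fin r → F[X]} (h : BDec S x P) :
    Dec S x fun a => (P a).natDegree :=
  ⟨h.sum, fun a => ⟨P a, h.monic a, rfl, h.kill a⟩, h.span⟩

omit [Finite F] in
theorem BDec.reindex {S : End F V} {x : ι → V} {P : ι → F[X]} (h : BDec S x P) (e : κ ≃ ι) :
    BDec S (x ∘ e) (P ∘ e) :=
  ⟨fun i => h.monic _, fun i => h.kill _, by
    rw [← h.sum]; exact e.sum_comp fun i => (P i).natDegree,
    fun z => by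
      obtain ⟨p, hp⟩ := h.span z
      exact ⟨p ∘ e, by rw [hp]; exact (e.sum_comp fun i => aeval S (p i) (x i)).symm⟩⟩

omit [Finite F] in
theorem dprod_reindex (P : ι → F[X]) (e : κ ≃ ι) : dprod (P ∘ e) = dprod P :=
  e.prod_comp fun i => (-1) ^ (P i).natDegree * (P i).coeff 0

omit [Finite F] in
theorem Comm.of_equiv {P : ι → F[X]} (e : κ ≃ ι) (h : Comm (P ∘ e)) : Comm P :=
  fun V _ _ _ S x hb => h V S _ (hb.reindex e)

omit [Finite F] in
theorem isComm_one : IsComm (1 : End F V) :=
  ⟨1, 1, map_one _, map_one _, by simp⟩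

omit [Finite F] in
theorem isComm_of_finrank_zero (S : End F V) (h : finrank F V = 0) : IsComm S := by
  haveI : Subsingleton V := Module.finrank_zero_iff.1 h
  rw [Subsingleton.elim S 1]
  exact isComm_one

omit [Finite F] in
theorem isComm_conj {W : Type u} [AddCommGroup W] [Module F W] [FiniteDimensional F W] (e : W ≃ₗ[F] V)
    {T : End F W} (h : IsComm T) : IsComm ((e : W →ₗ[F] V) ∘ₗ T ∘ₗ (e.symm : V →ₗ[F] W)) := by
  obtain ⟨A, B, hA, hB, he⟩ := h
  refine ⟨(e : W →ₗ[F] V) ∘ₗ A ∘ₗ (e.symm : V →ₗ[F] W), (e : W →ₗ[F] V) ∘ₗ B ∘ₗ (e.symm : V →ₗ[F] W),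
    by rw [LinearMap.det_conj, hA], by rw [LinearMap.det_conj, hB], LinearMap.ext fun z => ?_⟩
  simpa using congrArg e (LinearMap.congr_fun he (e.symm z))

omit [Finite F] in
theorem isComm_prodMap {W : Type u} [AddCommGroup W] [Module F W] [FiniteDimensional F W] {S : End F V}
    {T : End F W} (hS : IsComm S) (hT : IsComm T) : IsComm (LinearMap.prodMap S T) := by
  obtain ⟨A, B, hA, hB, he⟩ := hS
  obtain ⟨A', B', hA', hB', he'⟩ := hT
  refine ⟨LinearMap.prodMap A A', LinearMap.prodMap B B', by rw [LinearMap.det_prodMap, hA, hA', one_mul],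
    by rw [LinearMap.det_prodMap, hB, hB', one_mul], LinearMap.ext fun z => ?_⟩
  exact Prod.ext (LinearMap.congr_fun he z.1) (LinearMap.congr_fun he' z.2)

omit [Finite F] in
theorem restrict_conj {S : End F V} {W W' : Submodule F V} (hc : IsCompl W W') (hW : ∀ w ∈ W, S w ∈ W)
    (hW' : ∀ w ∈ W', S w ∈ W') :
    S = (W.prodEquivOfIsCompl W' hc : (W × W') →ₗ[F] V) ∘ₗ
      LinearMap.prodMap (S.restrict hW) (S.restrict hW') ∘ₗ
      ((W.prodEquivOfIsCompl W' hc).symm : V →ₗ[F] (W × W')) := by
  refine LinearMap.ext fun z => ?_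
  obtain ⟨⟨a, b⟩, rfl⟩ := (W.prodEquivOfIsCompl W' hc).surjective z
  simp only [LinearMap.comp_apply, LinearEquiv.coe_coe, LinearEquiv.symm_apply_apply, LinearMap.prodMap_apply]
  rw [Submodule.coe_prodEquivOfIsCompl' (h := hc), Submodule.coe_prodEquivOfIsCompl' (h := hc), map_add]
  rfl

/-- The span of some of the orbits. -/
def orb (S : End F V) (x : ι → V) (p : ι → Prop) : Submodule F V :=
  Submodule.span F {z | ∃ i, p i ∧ ∃ q : F[X], aeval S q (x i) = z}

omit [Finite F] [FiniteDimensional F V] [Fintype ι] in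
theorem orb_inv (S : End F V) (x : ι → V) (p : ι → Prop) : ∀ w ∈ orb S x p, S w ∈ orb S x p := by
  have : orb S x p ≤ (orb S x p).comap S := by
    refine Submodule.span_le.2 ?_
    rintro _ ⟨i, hi, q, rfl⟩
    exact Submodule.subset_span ⟨i, hi, X * q, by simp⟩
  exact fun w hw => this hw

omit [Finite F] in
theorem BDec.split {S : End F V} {x : ι → V} {P : ι → F[X]} (h : BDec S x P) (p : ι → Prop) [DecidablePred p] :
    IsCompl (orb S x p) (orb S x fun i => ¬ p i) ∧
      ∃ y : {i // p i} → orb S x p, BDec (S.restrict (orb_inv S x p)) y fun i => P i := by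
  classical
  obtain ⟨B, hB⟩ := (h.reindex (Fintype.equivFin ι).symm).dec.exists_basis
  have hle : ∀ q : ι → Prop, [DecidablePred q] → finrank F (orb S x q) ≤ ∑ i : {i // q i}, (P i).natDegree := by
    intro q _
    let g : (Σ i : {i // q i}, Fin (P i).natDegree) → V := fun a => (S ^ (a.2 : ℕ)) (x a.1)
    have hs : orb S x q ≤ Submodule.span F (Set.range g) := by
      refine Submodule.span_le.2 ?_
      rintro _ ⟨i, hi, r, rfl⟩
      have h1 := (h.reindex (Fintype.equivFin ι).symm).dec.orbit_le (Fintype.equivFin ι i) r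
      simp only [Function.comp_apply] at h1
      rw [Equiv.symm_apply_apply] at h1
      refine (Submodule.span_mono ?_) h1
      rintro _ ⟨l, rfl⟩
      exact ⟨⟨⟨i, hi⟩, l⟩, rfl⟩
    refine (Submodule.finrank_mono hs).trans ((finrank_range_le_card g).trans_eq ?_)
    simp
  have htop : orb S x p ⊔ orb S x (fun i => ¬ p i) = ⊤ := by
    rw [eq_top_iff]
    intro z _
    obtain ⟨r, rfl⟩ := h.span z
    refine Submodule.sum_mem _ fun i _ => ?_
    by_cases hi : p i
    · exact Submodule.mem_sup_left (Submodule.subset_span ⟨i, hi, r i, rfl⟩)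
    · exact Submodule.mem_sup_right (Submodule.subset_span ⟨i, hi, r i, rfl⟩)
  have h1 := hle p
  have h2 := hle fun i => ¬ p i
  have hs : (∑ i : {i // p i}, (P i).natDegree) + ∑ i : {i // ¬ p i}, (P i).natDegree = finrank F V := by
    rw [← h.sum]
    exact Fintype.sum_subtype_add_sum_subtype p fun i => (P i).natDegree
  have h3 := Submodule.finrank_sup_add_finrank_inf_eq (orb S x p) (orb S x fun i => ¬ p i)
  rw [htop, finrank_top] at h3
  have hinf : orb S x p ⊓ orb S x (fun i => ¬ p i) = ⊥ := by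
    rw [← Submodule.finrank_eq_zero]
    omega
  refine ⟨⟨disjoint_iff.2 hinf, codisjoint_iff.2 htop⟩, fun i => ⟨x i, Submodule.subset_span ⟨i, i.2, 1, by simp⟩⟩,
    fun i => h.monic _, fun i => ?_, by omega, fun z => ?_⟩
  all_goals
    have hres : ∀ (q : F[X]) (w : orb S x p), ((aeval (S.restrict (orb_inv S x p)) q w : orb S x p) : V) =
        aeval S q (w : V) := fun q => by
      induction q using Polynomial.induction_on with
      | C c => exact fun w => by simp
      | add q r hq hr => exact fun w => by simp [hq, hr]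
      | monomial n c ih =>
        intro w
        rw [show C c * X ^ (n + 1) = X * (C c * X ^ n) by ring]
        revert ih
        generalize (C c * X ^ n : F[X]) = q
        intro ih
        rw [map_mul, map_mul, Module.End.mul_apply, Module.End.mul_apply, aeval_X, aeval_X, ← ih]
        rfl
  · exact Subtype.ext (by rw [hres, h.kill]; rfl)
  · obtain ⟨w, hw⟩ := z
    have : ∃ r : {i // p i} → F[X], w = ∑ i, aeval S (r i) (x i) := by
      refine Submodule.span_induction
        (p := fun w _ => ∃ r : {i // p i} → F[X], w = ∑ i, aeval S (r i) (x i)) ?_ ⟨0, by simp⟩ ?_ ?_ hw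
      · rintro _ ⟨i, hi, q, rfl⟩
        refine ⟨Pi.single ⟨i, hi⟩ q, ?_⟩
        rw [Finset.sum_eq_single (⟨i, hi⟩ : {i // p i}) (fun b _ hb => by simp [hb])
          (fun h => absurd (Finset.mem_univ _) h), Pi.single_eq_same]
      · rintro a b _ _ ⟨q, rfl⟩ ⟨r, rfl⟩
        exact ⟨q + r, by simp [Finset.sum_add_distrib]⟩
      · rintro c a _ ⟨q, rfl⟩
        exact ⟨fun i => C c * q i, by simp [Finset.smul_sum]⟩
    obtain ⟨r, hr⟩ := this
    refine ⟨r, Subtype.ext ?_⟩
    rw [Submodule.coe_sum]
    simp only [hres]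
    exact hr

/-- Splitting the family in two. -/
theorem Comm.split {P : ι → F[X]} (p : ι → Prop) [DecidablePred p] (h1 : Comm fun i : {i // p i} => P i)
    (h2 : Comm fun i : {i // ¬ p i} => P i) : Comm P := by
  intro V _ _ _ S x hb
  obtain ⟨hc, y, hy⟩ := hb.split p
  obtain ⟨-, y', hy'⟩ := hb.split fun i => ¬ p i
  rw [restrict_conj hc (orb_inv S x p) (orb_inv S x fun i => ¬ p i)]
  exact isComm_conj _ (isComm_prodMap (h1 _ _ _ hy) (h2 _ _ _ hy'))

omit [Finite F] in
theorem dprod_split (P : ι → F[X]) (p : ι → Prop) [DecidablePred p] :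
    dprod (fun i : {i // p i} => P i) * dprod (fun i : {i // ¬ p i} => P i) = dprod P :=
  Fintype.prod_subtype_mul_prod_subtype p fun i => (-1) ^ (P i).natDegree * (P i).coeff 0

omit [Finite F] in
/-- The determinant. -/
theorem BDec.det : ∀ {n : ℕ} {ι : Type} [Fintype ι], Fintype.card ι = n →
    ∀ {V : Type u} [AddCommGroup V] [Module F V] [FiniteDimensional F V] {S : End F V} {x : ι → V} {P : ι → F[X]},
      BDec S x P → LinearMap.det S = dprod P := by
  intro n
  induction n with
  | zero =>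
    intro ι _ hn V _ _ _ S x P h
    haveI := Fintype.card_eq_zero_iff.1 hn
    have h0 : finrank F V = 0 := by rw [← h.sum]; simp
    rw [LinearMap.det_eq_one_of_finrank_eq_zero h0, dprod, Finset.univ_eq_empty, Finset.prod_empty]
  | succ n ih =>
    intro ι _ hn V _ _ _ S x P h
    classical
    obtain ⟨i₀⟩ : Nonempty ι := Fintype.card_pos_iff.1 (by omega)
    obtain ⟨hc, y, hy⟩ := h.split (· = i₀)
    obtain ⟨-, y', hy'⟩ := h.split fun i => ¬ i = i₀
    have hd' := ih (ι := {i // ¬ i = i₀}) (by rw [Fintype.card_subtype_compl, Fintype.card_subtype_eq]; omega) hy'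
    have hd : LinearMap.det (S.restrict (orb_inv S x (· = i₀))) = dprod fun i : {i // i = i₀} => P i := by
      rw [dprod, Fintype.prod_subsingleton _ (⟨i₀, rfl⟩ : {i // i = i₀})]
      have hcy : Cyc (S.restrict (orb_inv S x (· = i₀))) (P i₀) := by
        refine cyc_mk (h.monic _) (v := y ⟨i₀, rfl⟩) (by have := hy.sum; rwa [Fintype.sum_subsingleton _ (⟨i₀, rfl⟩ : {i // i = i₀})] at this)
          (fun z => ?_) (hy.kill ⟨i₀, rfl⟩)
        obtain ⟨r, hr⟩ := hy.span z
        exact ⟨r ⟨i₀, rfl⟩, by rw [hr, Fintype.sum_subsingleton _ (⟨i₀, rfl⟩ : {i // i = i₀})]⟩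
      rw [hcy.det, ← hcy.2.1]
    conv_lhs => rw [restrict_conj hc (orb_inv S x (· = i₀)) (orb_inv S x fun i => ¬ i = i₀)]
    rw [LinearMap.det_conj, LinearMap.det_prodMap, hd, hd', dprod_split]

/-- Joining two coprime blocks. -/
theorem Comm.join [DecidableEq ι] {P : ι → F[X]} (i j : ι) (hij : i ≠ j) (hco : IsCoprime (P i) (P j))
    (h : Comm fun l : {l // l ≠ j} => if (l : ι) = i then P i * P j else P l) : Comm P := by
  intro V _ _ _ S x hb
  refine h V S (fun l => if (l : ι) = i then x i + x j else x l) ⟨fun l => ?_, fun l => ?_, ?_, fun z => ?_⟩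
  · split_ifs
    exacts [(hb.monic i).mul (hb.monic j), hb.monic _]
  · split_ifs
    · have e1 : aeval S (P i * P j) (x i) = 0 := by
        rw [mul_comm, map_mul, Module.End.mul_apply, hb.kill i, map_zero]
      have e2 : aeval S (P i * P j) (x j) = 0 := by rw [map_mul, Module.End.mul_apply, hb.kill j, map_zero]
      rw [map_add, e1, e2, add_zero]
    · exact hb.kill _
  · have hsum := hb.sum
    rw [Fintype.sum_eq_add_sum_subtype_ne _ j] at hsum
    rw [← hsum, Fintype.sum_eq_add_sum_subtype_ne _ (⟨i, hij⟩ : {l // l ≠ j}),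
      Fintype.sum_eq_add_sum_subtype_ne (fun l : {l // l ≠ j} => (P l).natDegree) (⟨i, hij⟩ : {l // l ≠ j})]
    rw [if_pos rfl, natDegree_mul (hb.monic i).ne_zero (hb.monic j).ne_zero, add_comm (P i).natDegree, add_assoc]
    congr 2
    refine Finset.sum_congr rfl fun l _ => ?_
    rw [if_neg fun e => l.2 (Subtype.ext e)]
  · obtain ⟨a, b, hab⟩ := hco
    obtain ⟨p, hp⟩ := hb.span z
    have hi : aeval S (b * P j) (x i + x j) = x i := by
      have e1 : aeval S (b * P j) (x i) = x i := by
        rw [show b * P j = 1 - a * P i by rw [← hab]; ring, map_sub, LinearMap.sub_apply, map_one, Module.End.one_apply,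
          map_mul, Module.End.mul_apply, hb.kill i, map_zero, sub_zero]
      have e2 : aeval S (b * P j) (x j) = 0 := by rw [map_mul, Module.End.mul_apply, hb.kill j, map_zero]
      rw [map_add, e1, e2, add_zero]
    have hj : aeval S (a * P i) (x i + x j) = x j := by
      rw [show a * P i = 1 - b * P j by rw [← hab]; ring, map_sub, LinearMap.sub_apply, hi, map_one,
        Module.End.one_apply, add_sub_cancel_left]
    refine ⟨fun l => if (l : ι) = i then p i * (b * P j) + p j * (a * P i) else p l, ?_⟩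
    rw [hp, Fintype.sum_eq_add_sum_subtype_ne _ j,
      Fintype.sum_eq_add_sum_subtype_ne _ (⟨i, hij⟩ : {l // l ≠ j}),
      Fintype.sum_eq_add_sum_subtype_ne (fun l : {l // l ≠ j} =>
        aeval S (if (l : ι) = i then p i * (b * P j) + p j * (a * P i) else p l)
          (if (l : ι) = i then x i + x j else x l)) (⟨i, hij⟩ : {l // l ≠ j})]
    rw [if_pos rfl, if_pos rfl, map_add (aeval (R := F) S), LinearMap.add_apply, map_mul _ (p i), map_mul _ (p j),
      Module.End.mul_apply, Module.End.mul_apply, hi, hj]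
    conv_rhs =>
      arg 2
      rw [Finset.sum_congr rfl fun l _ => by rw [if_neg fun e => l.2 (Subtype.ext e), if_neg fun e => l.2 (Subtype.ext e)]]
    abel

/-- Every map has such a family, without trivial blocks. -/
theorem exists_bdec (S : End F V) :
    ∃ (n : ℕ) (x : Fin n → V) (P : Fin n → F[X]), BDec S x P := by
  classical
  obtain ⟨ι, _, p, hirr, e, ⟨E⟩⟩ := Module.equiv_directSum_of_isTorsion
    (Module.AEval.isTorsion_of_finiteDimensional (K := F) (A := Module.End F V) (M := V) (a := S))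
  let q : ι → F[X] := fun i => p i ^ e i
  have hq : ∀ i, q i ≠ 0 := fun i => pow_ne_zero _ (hirr i).ne_zero
  let x₀ : ι → V := fun i => (Module.AEval'.of S).symm
    (E.symm (DirectSum.lof F[X] ι (fun j => F[X] ⧸ F[X] ∙ p j ^ e j) i (Submodule.Quotient.mk 1)))
  have hx : ∀ (i : ι) (r : F[X]), aeval S r (x₀ i) = (Module.AEval'.of S).symm
      (E.symm (DirectSum.lof F[X] ι (fun j => F[X] ⧸ F[X] ∙ p j ^ e j) i (Submodule.Quotient.mk r))) := fun i r => by
    rw [show (Submodule.Quotient.mk r : F[X] ⧸ F[X] ∙ p i ^ e i) = r • Submodule.Quotient.mk 1 by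
      rw [← Submodule.Quotient.mk_smul, smul_eq_mul, mul_one], map_smul, map_smul, Module.AEval.of_symm_smul]
    rfl
  let en := (Fintype.equivFin ι).symm
  refine ⟨Fintype.card ι, fun a => x₀ (en a), fun a => q (en a) * C (q (en a)).leadingCoeff⁻¹, ?_⟩
  refine BDec.reindex (x := x₀) (P := fun i => q i * C (q i).leadingCoeff⁻¹) ⟨fun i => ?_, fun i => ?_, ?_, fun z => ?_⟩ en
  · exact monic_mul_leadingCoeff_inv (hq i)
  · rw [hx, (Submodule.Quotient.mk_eq_zero (F[X] ∙ p i ^ e i)).2 (Submodule.mem_span_singleton.2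
      ⟨C (q i).leadingCoeff⁻¹, mul_comm _ _⟩)]
    simp
  · haveI : ∀ i, Module.Finite F (F[X] ⧸ F[X] ∙ p i ^ e i) := fun i =>
      (AdjoinRoot.powerBasis (hq i)).finite
    rw [LinearEquiv.finrank_eq ((Module.AEval'.of S).trans (E.restrictScalars F)), Module.finrank_directSum]
    refine Finset.sum_congr rfl fun i _ => ?_
    rw [natDegree_mul_leadingCoeff_inv _ (hq i)]
    exact ((AdjoinRoot.powerBasis (hq i)).finrank.trans (AdjoinRoot.powerBasis_dim _)).symm
  · let y := E (Module.AEval'.of S z)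
    have hy : ∀ i, ∃ r : F[X], Submodule.Quotient.mk r = y i := fun i => Submodule.Quotient.mk_surjective _ (y i)
    choose r hr using hy
    refine ⟨r, ?_⟩
    simp only [hx, hr, ← map_sum]
    rw [LinearEquiv.eq_symm_apply, LinearEquiv.eq_symm_apply]
    exact (DirectSum.sum_univ_of y).symm

end CfsgLib.SLComm
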