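import Cfsg.Agent.Lib.SLComm.Centraliser

/-!
Commutators from factorizations, and one step of the factorization.
-/

set_option autoImplicit false

namespace CfsgLib.SLComm

open Polynomial Module

universe u

variable {F : Type u} [Field F] [Finite F]
variable {V : Type u} [AddCommGroup V] [Module F V] [FiniteDimensional F V]

/-- A commutator of maps of determinant one. -/
def IsComm (S : End F V) : Prop :=
  ∃ A B : End F V, LinearMap.det A = 1 ∧ LinearMap.det B = 1 ∧ S * B * A = A * B

/-- `P'` annihilates the inverses of what `P` annihilates. -/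
def InvPair (P P' : F[X]) : Prop :=
  P'.natDegree = P.natDegree ∧ (P.eval 1 = 0 ↔ P'.eval 1 = 0) ∧
    ∃ κ : F, ∀ (A : Type u) [Ring A] [Algebra F A] (f g : A), f * g = 1 → g * f = 1 →
      aeval g P = κ • (g ^ P.natDegree * aeval f P')

/-- A factorization into a cyclic map and the inverse of a similar one. -/
structure Fac (S L U : End F V) (P P' : F[X]) : Prop where
  eq : S = L * U
  good : GoodFactor P
  pair : InvPair P P'
  cycL : Cyc L P
  cycU : Cyc U P'
  det : LinearMap.det L = 1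

/-- The side conditions passed to an enclosing step. -/
def Link (L U : End F V) (P : F[X]) (b : V) (c : V →ₗ[F] F) : Prop :=
  P.eval 1 ≠ 0 ∨ (∃ φ : V →ₗ[F] F, (∀ z, φ (L z) = φ z) ∧ φ b ≠ 0) ∧ ∃ y, U y = y ∧ c y ≠ 0

theorem Fac.isComm {S L U : End F V} {P P' : F[X]} (h : Fac S L U P P') (hS : LinearMap.det S = 1) : IsComm S := by
  obtain ⟨u, hu⟩ : IsUnit U := by
    rw [Module.End.isUnit_iff]
    have hd : LinearMap.det U ≠ 0 := fun e => by
      rw [h.eq, map_mul, e, mul_zero] at hS
      exact zero_ne_one hS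
    exact (LinearMap.equivOfDetNeZero U hd).bijective
  set Y : End F V := ↑u⁻¹
  have hUY : U * Y = 1 := by rw [← hu]; exact u.mul_inv
  have hYU : Y * U = 1 := by rw [← hu]; exact u.inv_mul
  have hY : Cyc Y P := h.cycU.inv hUY h.cycL.1 h.pair.1.symm (by obtain ⟨κ, hκ⟩ := h.pair.2.2; rw [hκ _ U Y hUY hYU, h.cycU.2.2.1, mul_zero, smul_zero])
  have hdY : LinearMap.det Y = 1 := by rw [hY.det, ← h.cycL.det, h.det]
  obtain ⟨e, he⟩ := hY.similar h.cycL
  obtain ⟨A₁, h₁, hirr, -, hPA, hco⟩ := h.good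
  obtain ⟨d, hd, hde⟩ := exists_det_commute (hPA ▸ hY : Cyc Y (A₁ * h₁)) hirr hco
    (d := (LinearMap.det (e : V →ₗ[F] V))⁻¹) (inv_ne_zero e.isUnit_det'.ne_zero)
  refine ⟨(e : V →ₗ[F] V) ∘ₗ d, Y, ?_, hdY, ?_⟩
  · rw [LinearMap.det_comp, hde, mul_inv_cancel₀ e.isUnit_det'.ne_zero]
  · have hSY : S * Y = L := by rw [h.eq, mul_assoc, hUY, mul_one]
    rw [hSY]
    refine LinearMap.ext fun z => ?_
    show L (e (d z)) = e (d (Y z))
    rw [← he, show d (Y z) = Y (d z) from LinearMap.congr_fun hd z]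

theorem aeval_fixed {W : Type u} [AddCommGroup W] [Module F W] {g : End F W} {y : W} (hy : g y = y) (q : F[X]) :
    aeval g q y = q.eval 1 • y := by
  induction q using Polynomial.induction_on with
  | C a => simp
  | add p q hp hq => simp [hp, hq, add_smul]
  | monomial n a ih => rw [pow_succ, ← mul_assoc, map_mul, Module.End.mul_apply, aeval_X, hy, ih]; simp

/-- Adding the eigenvalue one on top: the upper form. -/
theorem cyc_cons_upper {f : End F V} {W₀ : Submodule F V} (g : End F W₀) {v : V} {P : F[X]} (hg : Cyc g P)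
    (c : W₀ →ₗ[F] F) (hv : f v = v) (hv0 : v ≠ 0) (hdim : finrank F W₀ + 1 = finrank F V)
    (hf : ∀ z : W₀, f z = c z • v + (g z : V)) (hspan : ∀ y, ∃ (a : F) (z : W₀), y = a • v + z)
    (hlink : P.eval 1 ≠ 0 ∨ ∃ y, g y = y ∧ c y ≠ 0) : Cyc f ((X - 1) * P) := by
  obtain ⟨z₀, hz₀⟩ := hg.2.2.2
  have hX1 : (X - 1 : F[X]).Monic := by simpa using monic_X_sub_C (1 : F)
  have hX1d : (X - 1 : F[X]).natDegree = 1 := by simpa using natDegree_X_sub_C (1 : F)
  -- polynomials in `f` lift those in `g`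
  have hlift : ∀ (p : F[X]) (z : W₀), ∃ a : F, aeval f p (z : V) = a • v + (aeval g p z : W₀) := by
    intro p
    induction p using Polynomial.induction_on with
    | C a => exact fun z => ⟨0, by simp⟩
    | add p q hp hq =>
      intro z
      obtain ⟨a, ha⟩ := hp z
      obtain ⟨b, hb⟩ := hq z
      refine ⟨a + b, ?_⟩
      simp only [map_add, LinearMap.add_apply, ha, hb, Submodule.coe_add]
      module
    | monomial n a ih =>
      intro z
      obtain ⟨b, hb⟩ := ih z
      refine ⟨b + c (aeval g (C a * X ^ n) z), ?_⟩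
      rw [show C a * X ^ (n + 1) = X * (C a * X ^ n) by ring]
      revert hb
      generalize (C a * X ^ n : F[X]) = u
      intro hb
      rw [map_mul, map_mul, Module.End.mul_apply, Module.End.mul_apply, hb, aeval_X, aeval_X, map_add, map_smul, hv, hf]
      module
  have hgenW : ∀ z : W₀, ∃ (p : F[X]) (a : F), aeval f p (z₀ : V) = a • v + (z : V) := fun z => by
    obtain ⟨p, rfl⟩ := hz₀ z
    obtain ⟨a, ha⟩ := hlift p z₀
    exact ⟨p, a, ha⟩
  have hPz : ∃ a : F, aeval f P (z₀ : V) = a • v := by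
    obtain ⟨a, ha⟩ := hlift P z₀
    refine ⟨a, ?_⟩
    rw [ha, hg.2.2.1, LinearMap.zero_apply, Submodule.coe_zero, add_zero]
  rcases hlink with hne | ⟨y, hy, hcy⟩
  · refine cyc_coprime (W₀ := F ∙ v) (w₀ := v) (x := (z₀ : V)) hX1 hg.1 ?_ (by rw [hX1d, hg.2.1]; omega)
      (Submodule.mem_span_singleton_self v) (fun w hw => ?_) (by simp [hv]) ?_ (fun y => ?_)
    · rw [← map_one C, (irreducible_X_sub_C (1 : F)).coprime_iff_not_dvd, dvd_iff_isRoot]
      exact hne
    · obtain ⟨a, rfl⟩ := Submodule.mem_span_singleton.1 hw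
      exact ⟨C a, by simp⟩
    · obtain ⟨a, ha⟩ := hPz
      exact Submodule.mem_span_singleton.2 ⟨a, ha.symm⟩
    · obtain ⟨a, z, rfl⟩ := hspan y
      obtain ⟨p, b, hp⟩ := hgenW z
      exact ⟨p, (a - b) • v, Submodule.smul_mem _ _ (Submodule.mem_span_singleton_self v), by rw [hp]; module⟩
  obtain ⟨p, hp⟩ := hz₀ y
  have hP1 : P.eval 1 = 0 := by
    by_contra hne
    have hall : ∀ q : F[X], aeval g q y = q.eval 1 • y := aeval_fixed hy
    have h1 := hall P
    rw [hg.2.2.1, LinearMap.zero_apply, eq_comm, smul_eq_zero] at h1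
    exact hcy (by rw [h1.resolve_left hne, map_zero])
  obtain ⟨Q, hQ⟩ : (X - 1 : F[X]) ∣ P := by rw [← map_one C, dvd_iff_isRoot]; exact hP1
  -- the eigenvector is the canonical one
  have hcQ : c (aeval g Q z₀) ≠ 0 := by
    intro h0
    obtain ⟨r, hr⟩ : Q ∣ p := by
      have h1 : aeval g ((X - 1) * p) z₀ = 0 := by
        rw [map_mul, Module.End.mul_apply, hp]
        simp [hy]
      obtain ⟨r, hr⟩ := hg.dvd hz₀ h1
      refine ⟨r, mul_left_cancel₀ hX1.ne_zero ?_⟩
      rw [hr, hQ]; ring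
    have hfix : g (aeval g Q z₀) = aeval g Q z₀ := by
      have h1 : aeval g ((X - 1) * Q) z₀ = 0 := by rw [← hQ, hg.2.2.1, LinearMap.zero_apply]
      rw [map_mul, Module.End.mul_apply] at h1
      simpa [sub_eq_zero] using h1
    apply hcy
    rw [← hp, hr, mul_comm, map_mul, Module.End.mul_apply,
      aeval_fixed hfix, map_smul, h0, smul_zero]
  have hPv : aeval f P (z₀ : V) = c (aeval g Q z₀) • v := by
    obtain ⟨a, ha⟩ := hlift Q z₀
    have h1 : g (aeval g Q z₀) = aeval g Q z₀ := by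
      have h1 : aeval g ((X - 1) * Q) z₀ = 0 := by rw [← hQ, hg.2.2.1, LinearMap.zero_apply]
      rw [map_mul, Module.End.mul_apply] at h1
      simpa [sub_eq_zero] using h1
    rw [hQ, map_mul, Module.End.mul_apply, ha, map_sub, aeval_X, map_one, LinearMap.sub_apply, Module.End.one_apply,
      map_add, map_smul, hv, hf, h1]
    module
  refine cyc_mk (hX1.mul hg.1) (by rw [natDegree_mul hX1.ne_zero hg.1.ne_zero, hX1d, hg.2.1]; omega) (v := (z₀ : V))
    (fun y => ?_) (by rw [map_mul, Module.End.mul_apply, hPv]; simp [hv])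
  obtain ⟨a, z, rfl⟩ := hspan y
  obtain ⟨q, b, hq⟩ := hgenW z
  refine ⟨q + C ((a - b) / c (aeval g Q z₀)) * P, ?_⟩
  rw [map_add, LinearMap.add_apply, hq, map_mul, Module.End.mul_apply, hPv, aeval_C,
    Module.algebraMap_end_apply, smul_smul, div_mul_cancel₀ _ hcQ]
  module

/-- The residual map of a step. -/
def res (S : End F V) (f : V →ₗ[F] F) (v : V) : End F V :=
  S - ((f.comp S).smulRight (S v))

theorem res_apply (S : End F V) (f : V →ₗ[F] F) (v z : V) : res S f v z = S z - f (S z) • S v := by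
  simp [res]

theorem res_mem {S : End F V} {f : V →ₗ[F] F} {v : V} (hfS : f (S v) = 1) (z : V) :
    res S f v z ∈ LinearMap.ker f := by
  rw [LinearMap.mem_ker, res_apply, map_sub, map_smul, hfS, smul_eq_mul, mul_one, sub_self]

/-- The residual map on the kernel. -/
def resKer (S : End F V) (f : V →ₗ[F] F) (v : V) (hfS : f (S v) = 1) : End F (LinearMap.ker f) :=
  (res S f v).restrict fun z _ => res_mem hfS z

theorem det_resKer (S : End F V) (f : V →ₗ[F] F) (v : V) (hfv : f v = 1) (hfS : f (S v) = 1) :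
    LinearMap.det (resKer S f v hfS) = LinearMap.det S := by
  classical
  let W₀ := LinearMap.ker f
  let incl : F →ₗ[F] V := (LinearMap.id : F →ₗ[F] F).smulRight v
  let E : (F × W₀) →ₗ[F] V := incl.coprod W₀.subtype
  have hEb : Function.Bijective E := by
    refine ⟨(injective_iff_map_eq_zero _).2 ?_, fun y => ⟨(f y, ⟨y - f y • v, by simp [W₀, hfv]⟩), by simp [E, incl]⟩⟩
    rintro ⟨a, z⟩ h0
    have h1 := congrArg f h0
    simp [E, incl, hfv, LinearMap.mem_ker.1 z.2] at h1
    subst h1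
    simpa [E, incl] using h0
  let e := LinearEquiv.ofBijective E hEb
  let R : End F V := (e : (F × W₀) →ₗ[F] V) ∘ₗ (LinearMap.prodMap LinearMap.id (resKer S f v hfS)) ∘ₗ
    (e.symm : V →ₗ[F] (F × W₀))
  have hR : ∀ y, R y = f y • v + res S f v (y - f y • v) := fun y => by
    have he : e.symm y = (f y, ⟨y - f y • v, by simp [W₀, hfv]⟩) := by
      rw [LinearEquiv.symm_apply_eq]
      show y = f y • v + (y - f y • v)
      abel
    simp only [R, LinearMap.comp_apply, LinearEquiv.coe_coe, he, LinearMap.prodMap_apply, LinearMap.id_apply]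
    rfl
  have hb : f (S v - v) = 0 := by rw [map_sub, hfS, hfv, sub_self]
  let g : Dual F V := f.comp S - f
  have hg : g v = 0 := by simp [g, hfv, hfS]
  have hS : S = LinearMap.transvection f (S v - v) * R * LinearMap.transvection g v := by
    refine LinearMap.ext fun y => ?_
    simp only [Module.End.mul_apply, LinearMap.transvection.apply, hR, g, LinearMap.sub_apply, LinearMap.comp_apply,
      res_apply, map_add, map_sub, map_smul, smul_eq_mul, hfv, hfS]
    module
  conv_rhs => rw [hS]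
  rw [map_mul, map_mul, LinearMap.transvection.det, LinearMap.transvection.det, hb, hg, add_zero, one_mul, mul_one,
    LinearMap.det_conj, LinearMap.det_prodMap, LinearMap.det_id, one_mul]

/-- A step of the factorization. -/
theorem step (S : End F V) (f : V →ₗ[F] F) (v : V) (hfv : f v = 1) (hfS : f (S v) = 1)
    (L' U' : End F (LinearMap.ker f)) (P P' : F[X]) (h : Fac (resKer S f v hfS) L' U' P P')
    (hlink : Link L' U' P ⟨S v - v, by simp [hfv, hfS]⟩ ((f.comp S).comp (LinearMap.ker f).subtype)) :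
    ∃ L U : End F V, Fac S L U ((X - 1) * P) ((X - 1) * P') ∧ (∀ z, f (L z) = f z) ∧ U v = v := by
  classical
  let π : V →ₗ[F] (LinearMap.ker f) := (LinearMap.id - f.smulRight v).codRestrict (LinearMap.ker f) fun y => by simp [hfv]
  have hπ : ∀ y, (π y : V) = y - f y • v := fun y => rfl
  have hπW : ∀ z : (LinearMap.ker f), π z = z := fun z => Subtype.ext (by
    rw [hπ, LinearMap.mem_ker.1 z.2, zero_smul, sub_zero])
  have hπv : π v = 0 := Subtype.ext (by rw [hπ, hfv, one_smul, sub_self, Submodule.coe_zero])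
  have hfW : ∀ z : (LinearMap.ker f), f (z : V) = 0 := fun z => LinearMap.mem_ker.1 z.2
  let b : (LinearMap.ker f) := ⟨S v - v, by simp [hfv, hfS]⟩
  let L : End F V := f.smulRight (S v) + (LinearMap.ker f).subtype ∘ₗ L' ∘ₗ π
  let U : End F V := f.smulRight v + (((f.comp S).comp (LinearMap.ker f).subtype).comp π).smulRight v + (LinearMap.ker f).subtype ∘ₗ U' ∘ₗ π
  have hLv : L v = S v := by simp [L, hfv, hπv]
  have hLW : ∀ z : (LinearMap.ker f), L z = (L' z : V) := fun z => by simp [L, hfW, hπW]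
  have hUv : U v = v := by simp [U, hfv, hπv]
  have hUW : ∀ z : (LinearMap.ker f), U z = f (S z) • v + (U' z : V) := fun z => by simp [U, hfW, hπW]
  have hsplit : ∀ y, y = f y • v + (π y : V) := fun y => by rw [hπ]; abel
  have heq : S = L * U := LinearMap.ext fun y => by
    rw [hsplit y, map_add, map_smul, map_add, map_smul, Module.End.mul_apply, Module.End.mul_apply, hUv, hLv, hUW,
      map_add, map_smul, hLv, hLW, ← Module.End.mul_apply L', ← h.eq]
    show _ = _ + (_ + res S f v (π y : V))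
    rw [res_apply]
    abel
  have hdim : finrank F (LinearMap.ker f) + 1 = finrank F V := by
    have h1 := Submodule.finrank_quotient_add_finrank (LinearMap.ker f)
    have hsurj : Function.Surjective f := fun c => ⟨c • v, by simp [hfv]⟩
    rw [(f.quotKerEquivOfSurjective hsurj).finrank_eq, Module.finrank_self] at h1
    omega
  have hinvL : ∀ w ∈ (LinearMap.ker f), L w ∈ (LinearMap.ker f) := fun w hw => by rw [hLW ⟨w, hw⟩]; exact (L' _).2
  have hpol : ∀ (p : F[X]) (z : (LinearMap.ker f)), aeval L p (z : V) = ((aeval L' p z : (LinearMap.ker f)) : V) := by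
    intro p
    induction p using Polynomial.induction_on with
    | C a => exact fun z => by simp
    | add p q hp hq => exact fun z => by simp [hp, hq]
    | monomial n a ih =>
      intro z
      rw [show C a * X ^ (n + 1) = X * (C a * X ^ n) by ring, map_mul, map_mul (aeval L'), Module.End.mul_apply,
        Module.End.mul_apply, ih, aeval_X, aeval_X, hLW]
  have hX1 : (X - 1 : F[X]).Monic := by simpa using monic_X_sub_C (1 : F)
  have hX1d : (X - 1 : F[X]).natDegree = 1 := by simpa using natDegree_X_sub_C (1 : F)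
  have hcycL : Cyc L ((X - 1) * P) := by
    obtain ⟨w₀, hw₀⟩ := h.cycL.2.2.2
    refine cyc_cons (W₀ := LinearMap.ker f) (w₀ := (w₀ : V)) (x := v) h.cycL.1 (by rw [h.cycL.2.1]; exact hdim) w₀.2
      (fun w hw => ?_) (by rw [hpol, h.cycL.2.2.1]; rfl) hinvL (by rw [hLv]; exact b.2)
      (fun y => ⟨f y, (π y : V), (π y).2, hsplit y⟩) ?_
    · obtain ⟨p, hp⟩ := hw₀ ⟨w, hw⟩
      exact ⟨p, by rw [hpol, hp]⟩
    · refine hlink.imp id fun ⟨⟨φ, hφ, hφb⟩, _⟩ => ⟨φ.comp π, fun w hw => ?_, ?_⟩
      · show φ (π (L w)) = φ (π w)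
        rw [hLW ⟨w, hw⟩, hπW, show π w = ⟨w, hw⟩ from hπW ⟨w, hw⟩, hφ]
      · show φ (π (L v - v)) ≠ 0
        rw [hLv, show π (S v - v) = b from hπW b]
        exact hφb
  refine ⟨L, U, ⟨heq, ?_, ⟨?_, ?_, ?_⟩, hcycL, ?_, ?_⟩, fun z => ?_, hUv⟩
  · obtain ⟨A, h₁, hirr, h1, hPA, hco⟩ := h.good
    refine ⟨(X - 1) * A, h₁, hirr, h1, by rw [hPA, mul_assoc], IsCoprime.mul_left ?_ hco⟩
    rw [← map_one C, (irreducible_X_sub_C (1 : F)).coprime_iff_not_dvd, dvd_iff_isRoot]
    exact h1
  · rw [natDegree_mul hX1.ne_zero h.cycU.1.ne_zero, natDegree_mul hX1.ne_zero h.cycL.1.ne_zero, h.pair.1]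
  · simp
  · obtain ⟨κ, hκ⟩ := h.pair.2.2
    refine ⟨-κ, fun A _ _ g g' hgg hg'g => ?_⟩
    have hc : Commute (g - 1) (g' ^ P.natDegree) :=
      ((show Commute g g' from hgg.trans hg'g.symm).sub_left (Commute.one_left g')).pow_right _
    have h1 : (g' - 1) = -(g' * (g - 1)) := by rw [mul_sub, hg'g, mul_one]; abel
    rw [map_mul, map_mul, map_sub, map_sub, aeval_X, aeval_X, map_one, map_one, hκ A g g' hgg hg'g,
      natDegree_mul hX1.ne_zero h.cycL.1.ne_zero, hX1d, add_comm, pow_succ', h1, neg_smul, mul_smul_comm,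
      neg_mul, smul_neg]
    congr 2
    rw [mul_assoc g' (g - 1), mul_assoc g' (g' ^ _), ← mul_assoc (g - 1), hc.eq, mul_assoc]
  · exact cyc_cons_upper (W₀ := LinearMap.ker f) U' h.cycU ((f.comp S).comp (LinearMap.ker f).subtype) hUv
      (fun e => one_ne_zero (α := F) (by rw [← hfv, e, map_zero])) hdim hUW
      (fun y => ⟨f y, π y, hsplit y⟩) (by
        rcases hlink with hl | ⟨-, hy⟩
        · exact Or.inl fun e => hl (h.pair.2.1.2 e)
        · exact Or.inr hy)
  · have h1 := h.det
    rw [h.cycL.det] at h1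
    rw [hcycL.det, mul_coeff_zero, coeff_sub, coeff_X_zero, coeff_one_zero, ← hdim, pow_succ]
    linear_combination h1
  · rw [hsplit z, map_add, map_smul, hLv, hLW]
    simp [hfv, hfS, hfW]

end CfsgLib.SLComm
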